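import Cfsg.Agent.H967.K4.Crit
import Cfsg.Agent.H742.TwoC
import Cfsg.Agent.H612.Sym
import Cfsg.Agent.Mrg.Omega.ML.Ex.Typ.List

/-!
# Five good characters of the groups of Lie type of characteristic two: the large ranks (helper967, TEAM K4)

* `len_eq`, `len_ne` : the lengths of simple roots;
* `good5_A`, `good5_B`, `good5_D`, `good5_F4`, `good5_E6`, `good5_E7`, `good5_E8`;
* `SmallRank2` : the models of rank at most three;
* `lie_two` : every group of Lie type of characteristic two is `Good5` or `SmallRank2`.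
-/

set_option autoImplicit false

open Cfsg

namespace Cfsg.Agent.H967.K4

open CoxeterSystem Cfsg.Agent.ChevalleyStructure.CoxeterGeom Cfsg.Agent.Tits.Roots Cfsg.Agent.Tits.Core
  Cfsg.Agent.Nodes.Reps Cfsg.Agent.Nodes.BNOf Cfsg.Agent.Nodes.Bruhat Cfsg.Agent.H601.K4
  Cfsg.Agent.Omega.ML.Ex.Typ
open Cfsg.Agent.LieRecognition.BNCox (cA cA_apply)

section len

variable {I W : Type*} [Fintype I] [DecidableEq I] [Group W] [Fintype W] {M : CoxeterMatrix I}
  (cs : CoxeterSystem M W) {A : I → I → ℤ} (h : IsCartan M A)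

/-- the form on simple roots -/
theorem len_mul (i j : I) : A i j * form cs h (sr i) (sr i) = A j i * form cs h (sr j) (sr j) := by
  have h1 := two_form cs h i (sr j)
  have h2 := two_form cs h j (sr i)
  rw [sr, pairing_single, mul_one] at h1
  rw [sr, pairing_single, mul_one] at h2
  rw [form_comm] at h1
  exact h1.symm.trans h2

theorem len_eq {i j : I} (hij : M i j = 3) : form cs h (sr i) (sr i) = form cs h (sr j) (sr j) := by
  have h1 := cartan_three (ne_of_M (M := M) (by rw [hij]; decide)) hij h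
  have h2 := len_mul cs h i j
  rw [h1.1, h1.2] at h2
  linarith

theorem len_ne {i j : I} (hij : M i j = 4) : form cs h (sr i) (sr i) ≠ form cs h (sr j) (sr j) := by
  intro he
  have h2 := len_mul cs h i j
  rw [he] at h2
  have h3 := mul_right_cancel₀ (form_pos cs h (sr_ne_zero j)).ne' h2
  rcases h.rel i j (ne_of_M (M := M) (by rw [hij]; decide)) with ⟨h4, -⟩ | ⟨h4, -⟩ | ⟨-, ⟨h4, h5⟩ | ⟨h4, h5⟩⟩ | ⟨h4, -⟩
  · omega
  · omega
  · omega
  · omega
  · omega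

theorem rep_ne_of_len {i j : I} (hij : form cs h (sr i) (sr i) ≠ form cs h (sr j) (sr j)) (w : W) :
    rep cs h w (sr i) ≠ sr j := by
  intro he
  apply hij
  rw [← he, form_rep]

end len

section rows

variable {S : Type*} [Group S] [Finite S]

theorem gg_of_g1 {l : ℕ} {M : CoxeterMatrix (Fin l)} {A : Fin l → Fin l → ℤ} {h : IsCartan M A} {T : Subgroup S}
    {X : (Fin l → ℤ) → Subgroup S} (h1 : Nodes.RGDLib.G1 M.toCoxeterSystem h X = ⊤) :
    GG M.toCoxeterSystem h T X = ⊤ :=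
  top_le_iff.1 (le_trans h1.symm.le le_sup_right)

theorem good5_of_rgdt_path {l : ℕ} {M : CoxeterMatrix (Fin l)} (hS : HasRGDT 2 M S) (hT : H601.OddDeg.TwoC S)
    {a b c : Fin l} (hab : M a b = 3) (hbc : M b c = 3) (hac : M a c = 2) : Good5 S := by
  obtain ⟨A, h, T, n, X, hW, R, hX⟩ := hS
  have : Finite M.Group := hW
  exact good5_of_path R (gg_of_g1 hX) hT hab hbc hac

theorem good5_A {n : ℕ} (hn : 3 ≤ n) (hS : HasRGDT 2 (cA n) S) (hT : H601.OddDeg.TwoC S) : Good5 S := by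
  refine good5_of_rgdt_path hS hT (a := ⟨0, by omega⟩) (b := ⟨1, by omega⟩) (c := ⟨2, by omega⟩) ?_ ?_ ?_ <;>
  · rw [cA_apply]
    unfold LieRecognition.CoxClass.mA
    simp

theorem good5_B {n : ℕ} (hn : 4 ≤ n) (hS : HasRGDT 2 (CoxeterMatrix.B n) S) (hT : H601.OddDeg.TwoC S) : Good5 S := by
  refine good5_of_rgdt_path hS hT (a := ⟨0, by omega⟩) (b := ⟨1, by omega⟩) (c := ⟨2, by omega⟩) ?_ ?_ ?_ <;>
  · rw [H612.Sym.B_apply, if_neg (by simp), if_neg (by simp; omega)]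
    simp

theorem good5_D {n : ℕ} (hS : HasRGDT 2 (Nodes.TypeD.M (n + 2)) S) (hT : H601.OddDeg.TwoC S) : Good5 S := by
  refine good5_of_rgdt_path hS hT (a := ⟨0, by omega⟩) (b := ⟨1, by omega⟩) (c := ⟨2, by omega⟩) ?_ ?_ ?_ <;>
  · rw [Nodes.TypeD.M_apply, if_neg (by simp)]
    unfold Nodes.TypeD.Adj
    simp

theorem good5_E6 (hS : HasRGDT 2 CoxeterMatrix.E₆ S) (hT : H601.OddDeg.TwoC S) : Good5 S :=
  good5_of_rgdt_path hS hT (a := 0) (b := 2) (c := 3) (by decide) (by decide) (by decide)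

theorem good5_E7 (hS : HasRGDT 2 CoxeterMatrix.E₇ S) (hT : H601.OddDeg.TwoC S) : Good5 S :=
  good5_of_rgdt_path hS hT (a := 0) (b := 2) (c := 3) (by decide) (by decide) (by decide)

theorem good5_E8 (hS : HasRGDT 2 CoxeterMatrix.E₈ S) (hT : H601.OddDeg.TwoC S) : Good5 S :=
  good5_of_rgdt_path hS hT (a := 0) (b := 2) (c := 3) (by decide) (by decide) (by decide)

theorem good5_F4 (hS : HasRGDT 2 CoxeterMatrix.F₄ S) (hT : H601.OddDeg.TwoC S) : Good5 S := by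
  obtain ⟨A, h, T, n, X, hW, R, hX⟩ := hS
  have : Finite CoxeterMatrix.F₄.Group := hW
  have := Fintype.ofFinite CoxeterMatrix.F₄.Group
  refine good5_of_pair R (gg_of_g1 hX) hT (a := 0) (b := 1) (c := 3) (by decide) (by decide)
    (oc_node R 3 2 (by decide)) ?_
  refine rep_ne_of_len _ h ?_
  rw [len_eq (i := 0) (j := 1) _ h (by decide), len_eq (i := 3) (j := 2) _ h (by decide)]
  exact len_ne _ h (by decide)

end rows

universe u

/-- the models of rank at most three -/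
inductive SmallRank2 (S : Type u) [Group S] : Prop
  | psl {F : Type} [Field F] [Fintype F] [CharP F 2] {n : ℕ} (hn : n = 2 ∨ n = 3) (h4 : n = 2 → 4 ≤ Fintype.card F)
      (e : S ≃* Matrix.ProjectiveSpecialLinearGroup (Fin n) F) : SmallRank2 S
  | psp {F : Type} [Field F] [Fintype F] [CharP F 2] {m : ℕ} (hm : m = 2 ∨ m = 3) (h3 : m = 2 → 3 ≤ Fintype.card F)
      (e : S ≃* PSp m F) : SmallRank2 S
  | psu {F : Type} [Field F] [Fintype F] [CharP F 2] {n q : ℕ} (hF : Fintype.card F = q ^ 2) (hn : 3 ≤ n) (hn7 : n ≤ 7)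
      (h32 : ¬ (n = 3 ∧ q = 2)) (e : S ≃* PSU n F q) : SmallRank2 S
  | pom {F : Type} [Field F] [Fintype F] [CharP F 2] {a b : F}
      (hab : ∀ z₁ z₂ : F, z₁ ^ 2 + a * z₁ * z₂ + b * z₂ ^ 2 = 0 → z₁ = 0 ∧ z₂ = 0)
      (e : S ≃* POmega F (quadFormMinus 3 F a b)) : SmallRank2 S
  | g2 {F : Type} [Field F] [Fintype F] [CharP F 2] (h3 : 3 ≤ Fintype.card F) (e : S ≃* Lie.chevG2.group F) :
      SmallRank2 S
  | d4 {K : Type} [Field K] [Fintype K] [CharP K 2] {q : ℕ} (hq : IsPrimePow q) (hK : Fintype.card K = q ^ 3)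
      (e : S ≃* Lie.twistedD4 K q) : SmallRank2 S
  | sz (h : Lie.IsoSuzuki S) : SmallRank2 S
  | ree (h : Lie.Iso2F4 S) : SmallRank2 S

/-- **The groups of Lie type of characteristic two.** -/
theorem lie_two {S : Type u} [Group S] [Finite S] [IsSimpleGroup S] (hS : IsLieTypeChar 2 S) :
    Good5 S ∨ SmallRank2 S := by
  have hT := H742.TwoC.twoC_charTwo hS
  have : Fact (Nat.Prime 2) := ⟨Nat.prime_two⟩
  rcases hS with h | h | h | h | h | h | h | h | ⟨-, h⟩ | ⟨-, h⟩ | ⟨h, -⟩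
  · obtain ⟨F, _, _, _, n, hn, hn4, ⟨e⟩⟩ := h
    rcases Nat.lt_or_ge n 4 with h4 | h4
    · exact Or.inr (.psl (by omega) hn4 e)
    · obtain ⟨m, rfl⟩ : ∃ m, n = m + 1 := ⟨n - 1, by omega⟩
      exact Or.inl (good5_A (by omega) ((typ_PSL m).of_equiv e.symm) hT)
  · obtain ⟨F, _, _, _, m, hm, h3, ⟨e⟩⟩ := h
    rcases Nat.lt_or_ge m 4 with h4 | h4
    · exact Or.inr (.psp (by omega) h3 e)
    · exact Or.inl (good5_B h4 ((typ_PSp (by omega)).of_equiv e.symm) hT)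
  · obtain ⟨F, _, _, _, n, q, hF, hn, h32, ⟨e⟩⟩ := h
    rcases Nat.lt_or_ge n 8 with h8 | h8
    · exact Or.inr (.psu hF hn (by omega) h32 e)
    · obtain ⟨m, hm, hR⟩ := typ_PSU (p := 2) hF hn
      exact Or.inl (good5_B (by omega) (hR.of_equiv e.symm) hT)
  · obtain ⟨F, _, _, _, m, hm, ho, ⟨e⟩⟩ := h
    exfalso
    have h1 : (2 : ℕ) ∣ Fintype.card F := by
      obtain ⟨k, hk, hk2⟩ := FiniteField.card F 2
      rw [hk2]
      exact dvd_pow_self _ k.ne_zero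
    exact (Nat.not_even_iff_odd.2 ho) (even_iff_two_dvd.2 h1)
  · obtain ⟨F, _, _, _, m, hm, ⟨e⟩⟩ := h
    obtain ⟨n, rfl⟩ : ∃ n, m = n + 4 := ⟨m - 4, by omega⟩
    exact Or.inl (good5_D ((typ_PO_plus (n + 1)).of_equiv e.symm) hT)
  · obtain ⟨F, _, _, _, m, a, b, hm, hab, ⟨e⟩⟩ := h
    rcases Nat.lt_or_ge m 5 with h5 | h5
    · obtain rfl : m = 4 := by omega
      exact Or.inr (.pom hab e)
    · exact Or.inl (good5_B (by omega) ((typ_PO_minus hab (by omega)).of_equiv e.symm) hT)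
  · obtain ⟨F, _, _, _, h⟩ := h
    rcases h with ⟨h3, ⟨e⟩⟩ | ⟨⟨e⟩⟩ | ⟨⟨e⟩⟩ | ⟨⟨e⟩⟩ | ⟨⟨e⟩⟩
    · exact Or.inr (.g2 h3 e)
    · exact Or.inl (good5_F4 ((typ_group (by simp [Nodes.RGDChev.IsType, Nodes.RGDChev.typeList]) F 2).of_equiv e.symm) hT)
    · exact Or.inl (good5_E6 ((typ_group (by simp [Nodes.RGDChev.IsType, Nodes.RGDChev.typeList]) F 2).of_equiv e.symm) hT)
    · exact Or.inl (good5_E7 ((typ_group (by simp [Nodes.RGDChev.IsType, Nodes.RGDChev.typeList]) F 2).of_equiv e.symm) hT)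
    · exact Or.inl (good5_E8 ((typ_group (by simp [Nodes.RGDChev.IsType, Nodes.RGDChev.typeList]) F 2).of_equiv e.symm) hT)
  · obtain ⟨K, _, _, _, q, hq, ⟨hK, ⟨e⟩⟩ | ⟨hK, ⟨e⟩⟩⟩ := h
    · exact Or.inl (good5_F4 ((typ_twE6 hq hK 2).of_equiv e.symm) hT)
    · exact Or.inr (.d4 hq hK e)
  · exact Or.inr (.sz h)
  · exact Or.inr (.ree h)
  · exact absurd h (by decide)

end Cfsg.Agent.H967.K4
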