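import Cfsg.Agent.H967.K4.Cusp
import Cfsg.Agent.H53.HC.WPerm
import Cfsg.Agent.H53.HC.Exc

/-!
# Five good characters from Harish-Chandra types, characteristic two (helper967, TEAM K4)

* `Assoc K J` : some `w` maps the simple roots of `K` to simple roots of `J`;
* `LamSet R Λ` : characters of the torus, pairwise not conjugate under the Weyl group;
* `good5_of` : `5 ≤ |Λ| + |F|` for a set `F` of pairwise not associated nonempty sets of nodes with `OC`;
* `good5_of_path` : a simply laced path of three nodes;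
* `good5_of_pair` : two joined nodes `a`, `b` and a node `c` not joined to `a`, of another length.
-/

set_option autoImplicit false

open scoped ComplexConjugate
open Cfsg

namespace Cfsg.Agent.H967.K4

open Cfsg.Agent.OddOrderCharacters.Clifford Cfsg.Agent.Characters Cfsg.Agent.H601.K4
open CoxeterSystem Cfsg.Agent.ChevalleyStructure.CoxeterGeom Cfsg.Agent.Tits.Roots Cfsg.Agent.Tits.Core
  Cfsg.Agent.Tits.Exchange Cfsg.Agent.Nodes.Reps Cfsg.Agent.Nodes.BNOf Cfsg.Agent.Nodes.StabComb
  Cfsg.Agent.Nodes.Bruhat Cfsg.Agent.Nodes.OppDec Cfsg.Agent.Nodes.LeviDec Cfsg.Agent.H53.HC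
  Cfsg.Agent.H246.Dl
open Cfsg.Agent.LieRecognition.BNCox (cA cA_apply)

theorem good5_of_inj {Y : Type*} [Group Y] {ι : Type*} [Fintype ι] (f : ι → Y → ℂ) (hf : Function.Injective f)
    (hg : ∀ i, Good (f i)) (h5 : 5 ≤ Fintype.card ι) : Good5 Y := by
  obtain ⟨e⟩ : Nonempty (Fin 5 ↪ ι) := Function.Embedding.nonempty_of_card_le (by simpa using h5)
  exact ⟨fun i => f (e i), hf.comp e.injective, fun i => hg _⟩

section rgd

variable {I W Y : Type*} [Fintype I] [DecidableEq I] [Group W] [Group Y] {M : CoxeterMatrix I}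
  {cs : CoxeterSystem M W} {A : I → I → ℤ} {h : IsCartan M A} {T : Subgroup Y} {n : I → Y}
  {X : (I → ℤ) → Subgroup Y}

/-- some element of the Weyl group maps the simple roots of `K` to simple roots of `J` -/
def Assoc (cs : CoxeterSystem M W) (h : IsCartan M A) (K J : Set I) : Prop :=
  ∃ w : W, ∀ i ∈ K, ∃ k ∈ J, rep cs h w (sr i) = sr k

theorem sr_injective {i k : I} (hik : (sr i : I → ℤ) = sr k) : i = k := by
  by_contra hne
  have := congrFun hik i
  rw [sr_self, sr_ne hne] at this
  exact one_ne_zero this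

theorem Assoc.ncard {K J : Set I} (hA : Assoc cs h K J) : K.ncard ≤ J.ncard := by
  classical
  obtain ⟨w, hw⟩ := hA
  choose f hf1 hf2 using hw
  refine Set.ncard_le_ncard_of_injOn (fun i => if hi : i ∈ K then f i hi else i) ?_ ?_ (Set.toFinite J)
  · intro i hi
    simp only [hi, dif_pos]
    exact hf1 i hi
  · intro i hi j hj e
    simp only [hi, hj, dif_pos] at e
    have h1 : rep cs h w (sr i) = rep cs h w (sr j) := by rw [hf2 i hi, hf2 j hj, e]
    have h2 : (sr i : I → ℤ) = sr j := by
      have := congrArg (rep cs h w⁻¹) h1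
      rwa [rep_inv_apply, rep_inv_apply] at this
    exact sr_injective h2

/-- a joined pair is not associated to an orthogonal pair -/
theorem not_assoc_pair [Finite W] {a b c d : I} (hab : a ≠ b) (h1 : A a b ≠ 0) (h2 : A c d = 0) (h3 : A d c = 0) :
    ¬ Assoc cs h ({a, b} : Set I) {c, d} := by
  rintro ⟨w, hw⟩
  obtain ⟨k, hk, e1⟩ := hw a (Or.inl rfl)
  obtain ⟨l, hl, e2⟩ := hw b (Or.inr rfl)
  have h4 := cartan_rep e1 e2
  rcases hk with rfl | rfl <;> rcases hl with rfl | rfl
  · have h5 : (sr a : I → ℤ) = sr b := by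
      have := congrArg (rep cs h w⁻¹) (e1.trans e2.symm)
      rwa [rep_inv_apply, rep_inv_apply] at this
    exact hab (sr_injective h5)
  · exact h1 (h4.symm.trans h2)
  · exact h1 (h4.symm.trans h3)
  · have h5 : (sr a : I → ℤ) = sr b := by
      have := congrArg (rep cs h w⁻¹) (e1.trans e2.symm)
      rwa [rep_inv_apply, rep_inv_apply] at this
    exact hab (sr_injective h5)

/-- characters of the torus, pairwise not conjugate under the Weyl group -/
structure LamSet (R : RGD cs h 2 T n X) [Fintype T] (Λ : Finset (T → ℂ)) : Prop where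
  irr : ∀ lam ∈ Λ, OddIrr lam
  nc : ∀ lam ∈ Λ, ∀ mu ∈ Λ, lam ≠ mu → ∀ (w : W) (g : Y), Rp cs R.nsys w g → ∀ hg : ∀ t ∈ T, g⁻¹ * t * g ∈ T,
    ∑ t : T, lam t * conj (mu ⟨g⁻¹ * t * g, hg t t.2⟩) = 0

theorem lamSet_one (R : RGD cs h 2 T n X) [Fintype T] : LamSet R {(1 : T → ℂ)} where
  irr := by
    intro lam hlam
    rw [Finset.mem_singleton] at hlam
    subst hlam
    refine ⟨Core.isIrr_one, ?_⟩
    rw [charDegree]
    simp
  nc := by
    intro lam h1 mu h2 hne
    rw [Finset.mem_singleton] at h1 h2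
    exact absurd (h1.trans h2.symm) hne

theorem not_hasFix_of_HT {χ : Y → ℂ} {K : Set I} (hχ : HT cs h X χ K) (hK : K.Nonempty) :
    ¬ HasFix χ (RGD.Sup X (RGD.Pos cs h)) := hχ.not_hasFix_U hK

variable (R : RGD cs h 2 T n X)

include R

/-- **The criterion.** -/
theorem good5_of [Finite W] [Finite Y] [Fintype T] (hG : GG cs h T X = ⊤) (hT : H601.OddDeg.TwoC Y)
    (F : Finset (Set I)) (hF : ∀ K ∈ F, K.Nonempty ∧ OC cs h X K)
    (hne : ∀ K ∈ F, ∀ J ∈ F, K ≠ J → ¬ (Assoc cs h K J ∧ Assoc cs h J K))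
    {Λ : Finset (T → ℂ)} (hΛ : LamSet R Λ) (h5 : 5 ≤ Λ.card + F.card) : Good5 Y := by
  classical
  have : Fintype (RGD.Sup X (RGD.Pos cs h)) := Fintype.ofFinite _
  choose! f hf using fun (K : Set I) (hK : K ∈ F) => (hF K hK).2.exists_HT R hG
  choose! g hg using fun (lam : T → ℂ) (hl : lam ∈ Λ) => exists_odd_lam R hG (hΛ.irr lam hl)
  have hfix : ∀ lam ∈ Λ, HasFix (g lam) (RGD.Sup X (RGD.Pos cs h)) := fun lam hl =>
    hasFix_of_ms _ _ R.T_le_normalizer_U (hg lam hl).1.1 (hg lam hl).2.2
  let F' : (Λ ⊕ F) → Y → ℂ := Sum.elim (fun l => g l) (fun K => f K)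
  refine good5_of_inj F' ?_ ?_ (by rw [Fintype.card_sum, Fintype.card_coe, Fintype.card_coe]; exact h5)
  · rintro (⟨l, hl⟩ | ⟨K, hK⟩) (⟨m, hm⟩ | ⟨J, hJ⟩) e
    · by_contra hcon
      have hlm : l ≠ m := fun e => hcon (by subst e; rfl)
      have e' : g l = g m := e
      have h1 := (hg l hl).2.2
      have h2 := (hg m hm).2.2
      rw [← e'] at h2
      obtain ⟨w, k, hk, hkT, h3⟩ := lam_conj R hG (hΛ.irr l hl).1 (hΛ.irr m hm).1 (hg l hl).1.1 h1 h2
      exact h3 (hΛ.nc l hl m hm hlm w k hk hkT)
    · exfalso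
      have e' : g l = f J := e
      refine (hf J hJ).2.2.not_hasFix_U (hF J hJ).1 ?_
      rw [← e']
      exact hfix l hl
    · exfalso
      have e' : f K = g m := e
      refine (hf K hK).2.2.not_hasFix_U (hF K hK).1 ?_
      rw [e']
      exact hfix m hm
    · by_contra hcon
      have hKJ : K ≠ J := fun e => hcon (by subst e; rfl)
      have e' : f K = f J := e
      have h1 := (hf K hK).2.2
      have h2 := (hf J hJ).2.2
      rw [← e'] at h2
      exact hne K hK J hJ hKJ ⟨h1.le J h2.fix, h2.le K h1.fix⟩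
  · rintro (⟨l, hl⟩ | ⟨K, hK⟩)
    · exact (hg l hl).2.1.good (hg l hl).1 hT
    · exact (hf K hK).2.1.good (hf K hK).1 hT

omit R in
theorem cartan_zero {i j : I} (hij : i ≠ j) (hM : M i j = 2) (h : IsCartan M A) : A i j = 0 ∧ A j i = 0 := by
  rcases h.rel i j hij with h1 | h1 | h1 | h1
  · exact h1.2
  · rw [hM] at h1; exact absurd h1.1 (by decide)
  · rw [hM] at h1; exact absurd h1.1 (by decide)
  · rw [hM] at h1; exact absurd h1.1 (by decide)

omit R in
theorem cartan_three {i j : I} (hij : i ≠ j) (hM : M i j = 3) (h : IsCartan M A) : A i j = -1 ∧ A j i = -1 := by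
  rcases h.rel i j hij with h1 | h1 | h1 | h1
  · rw [hM] at h1; exact absurd h1.1 (by decide)
  · exact h1.2
  · rw [hM] at h1; exact absurd h1.1 (by decide)
  · rw [hM] at h1; exact absurd h1.1 (by decide)

omit R in
theorem ne_of_M {i j : I} (hM : M i j ≠ 1) : i ≠ j := by
  rintro rfl
  exact hM (M.diagonal i)

theorem oc_two [Finite W] [Finite Y] {a b : I} (hab : M a b = 3) : OC cs h X {a, b} := by
  have hne : a ≠ b := ne_of_M (M := M) (by rw [hab]; decide)
  let k : Fin 2 ↪ I := ⟨![a, b], by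
    intro x y hxy
    fin_cases x <;> fin_cases y
    · rfl
    · exact absurd hxy hne
    · exact absurd hxy hne.symm
    · rfl⟩
  have h1 := oc_chain R le_rfl k (by
    intro x y
    fin_cases x <;> fin_cases y
    · change M a a = _
      rw [M.diagonal]; rfl
    · change M a b = _
      rw [hab]; rfl
    · change M b a = _
      rw [M.symmetric, hab]; rfl
    · change M b b = _
      rw [M.diagonal]; rfl)
  have h2 : Set.range k = {a, b} := by
    change Set.range ![a, b] = {a, b}
    rw [Matrix.range_cons, Matrix.range_cons, Matrix.range_empty, Set.union_empty]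
    rfl
  rwa [h2] at h1

theorem oc_three [Finite W] [Finite Y] {a b c : I} (hab : M a b = 3) (hbc : M b c = 3) (hac : M a c = 2) :
    OC cs h X {a, b, c} := by
  have n1 : a ≠ b := ne_of_M (M := M) (by rw [hab]; decide)
  have n2 : b ≠ c := ne_of_M (M := M) (by rw [hbc]; decide)
  have n3 : a ≠ c := ne_of_M (M := M) (by rw [hac]; decide)
  let k : Fin 3 ↪ I := ⟨![a, b, c], by
    intro x y hxy
    fin_cases x <;> fin_cases y
    · rfl
    · exact absurd hxy n1
    · exact absurd hxy n3
    · exact absurd hxy n1.symm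
    · rfl
    · exact absurd hxy n2
    · exact absurd hxy n3.symm
    · exact absurd hxy n2.symm
    · rfl⟩
  have h1 := oc_chain R (by norm_num) k (by
    intro x y
    fin_cases x <;> fin_cases y
    · change M a a = _
      rw [M.diagonal]; rfl
    · change M a b = _
      rw [hab]; rfl
    · change M a c = _
      rw [hac]; rfl
    · change M b a = _
      rw [M.symmetric, hab]; rfl
    · change M b b = _
      rw [M.diagonal]; rfl
    · change M b c = _
      rw [hbc]; rfl
    · change M c a = _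
      rw [M.symmetric, hac]; rfl
    · change M c b = _
      rw [M.symmetric, hbc]; rfl
    · change M c c = _
      rw [M.diagonal]; rfl)
  have h2 : Set.range k = {a, b, c} := by
    change Set.range ![a, b, c] = {a, b, c}
    rw [Matrix.range_cons, Matrix.range_cons, Matrix.range_cons, Matrix.range_empty, Set.union_empty]
    rfl
  rwa [h2] at h1

theorem oc_orth [Finite W] [Finite Y] {a c : I} (ha : OC cs h X {a}) (hc : OC cs h X {c}) (hac : M a c = 2) :
    OC cs h X {a, c} := by
  have n3 : a ≠ c := ne_of_M (M := M) (by rw [hac]; decide)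
  have h1 := ha.union R hc (by
    rintro i rfl j rfl
    exact ⟨n3, cartan_zero n3 hac h⟩)
  exact h1

/-- **A simply laced path of three nodes.** -/
theorem good5_of_path [Finite W] [Finite Y] (hG : GG cs h T X = ⊤) (hT : H601.OddDeg.TwoC Y) {a b c : I}
    (hab : M a b = 3) (hbc : M b c = 3) (hac : M a c = 2) : Good5 Y := by
  classical
  have : Fintype T := Fintype.ofFinite _
  have n1 : a ≠ b := ne_of_M (M := M) (by rw [hab]; decide)
  have n2 : b ≠ c := ne_of_M (M := M) (by rw [hbc]; decide)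
  have n3 : a ≠ c := ne_of_M (M := M) (by rw [hac]; decide)
  have e1 : ({a} : Set I).ncard = 1 := Set.ncard_singleton a
  have e2 : ({a, b} : Set I).ncard = 2 := Set.ncard_pair n1
  have e3 : ({a, c} : Set I).ncard = 2 := Set.ncard_pair n3
  have e4 : ({a, b, c} : Set I).ncard = 3 := by
    rw [Set.ncard_insert_of_notMem (by simp [n1, n3]), Set.ncard_pair n2]
  have d1 : ({a} : Set I) ≠ {a, b} := fun e => by rw [e, e2] at e1; omega
  have d2 : ({a} : Set I) ≠ {a, c} := fun e => by rw [e, e3] at e1; omega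
  have d3 : ({a} : Set I) ≠ {a, b, c} := fun e => by rw [e, e4] at e1; omega
  have hnot : ¬ Assoc cs h ({a, b} : Set I) {a, c} := by
    refine not_assoc_pair n1 ?_ (cartan_zero n3 hac h).1 (cartan_zero n3 hac h).2
    rw [(cartan_three n1 hab h).1]; decide
  have d4 : ({a, b} : Set I) ≠ {a, c} := fun e => hnot (by
    rw [e]
    exact ⟨1, fun i hi => ⟨i, hi, by rw [map_one, Module.End.one_apply]⟩⟩)
  have d5 : ({a, b} : Set I) ≠ {a, b, c} := fun e => by rw [e, e4] at e2; omega
  have d6 : ({a, c} : Set I) ≠ {a, b, c} := fun e => by rw [e, e4] at e3; omega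
  have hnode : OC cs h X {a} := oc_node R a b hab
  have hnode' : OC cs h X {c} := oc_node R c b (by rw [M.symmetric]; exact hbc)
  refine good5_of R hG hT {{a}, {a, b}, {a, c}, {a, b, c}} ?_ ?_ (lamSet_one R) ?_
  · intro K hK
    simp only [Finset.mem_insert, Finset.mem_singleton] at hK
    rcases hK with rfl | rfl | rfl | rfl
    · exact ⟨⟨a, rfl⟩, hnode⟩
    · exact ⟨⟨a, Or.inl rfl⟩, oc_two R hab⟩
    · exact ⟨⟨a, Or.inl rfl⟩, oc_orth R hnode hnode' hac⟩
    · exact ⟨⟨a, Or.inl rfl⟩, oc_three R hab hbc hac⟩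
  · intro K hK J hJ hKJ hA
    have hc := le_antisymm hA.1.ncard hA.2.ncard
    simp only [Finset.mem_insert, Finset.mem_singleton] at hK hJ
    rcases hK with rfl | rfl | rfl | rfl <;> rcases hJ with rfl | rfl | rfl | rfl <;>
      first
        | exact hKJ rfl
        | (simp only [e1, e2, e3, e4] at hc; omega)
        | exact hnot hA.1
        | exact hnot hA.2
  · rw [Finset.card_singleton, Finset.card_insert_of_notMem (by simp [d1, d2, d3]),
      Finset.card_insert_of_notMem (by simp [d4, d5]), Finset.card_insert_of_notMem (by simp [d6]),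
      Finset.card_singleton]

/-- **Two joined nodes `a`, `b` and a node `c` not joined to `a`, of another length.** -/
theorem good5_of_pair [Finite W] [Finite Y] (hG : GG cs h T X = ⊤) (hT : H601.OddDeg.TwoC Y) {a b c : I}
    (hab : M a b = 3) (hac : M a c = 2) (hc : OC cs h X {c}) (hlen : ∀ w : W, rep cs h w (sr a) ≠ sr c) :
    Good5 Y := by
  classical
  have : Fintype T := Fintype.ofFinite _
  have n1 : a ≠ b := ne_of_M (M := M) (by rw [hab]; decide)
  have n3 : a ≠ c := ne_of_M (M := M) (by rw [hac]; decide)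
  have e1 : ({a} : Set I).ncard = 1 := Set.ncard_singleton a
  have e2 : ({a, b} : Set I).ncard = 2 := Set.ncard_pair n1
  have e3 : ({a, c} : Set I).ncard = 2 := Set.ncard_pair n3
  have e4 : ({c} : Set I).ncard = 1 := Set.ncard_singleton c
  have d1 : ({a} : Set I) ≠ {a, b} := fun e => by rw [e, e2] at e1; omega
  have d2 : ({a} : Set I) ≠ {a, c} := fun e => by rw [e, e3] at e1; omega
  have d3 : ({a} : Set I) ≠ {c} := fun e => n3 (Set.singleton_injective e)
  have hnot : ¬ Assoc cs h ({a, b} : Set I) {a, c} := by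
    refine not_assoc_pair n1 ?_ (cartan_zero n3 hac h).1 (cartan_zero n3 hac h).2
    rw [(cartan_three n1 hab h).1]; decide
  have hnot' : ¬ Assoc cs h ({a} : Set I) {c} := by
    rintro ⟨w, hw⟩
    obtain ⟨k, hk, e⟩ := hw a rfl
    rw [Set.mem_singleton_iff] at hk
    subst hk
    exact hlen w e
  have d4 : ({a, b} : Set I) ≠ {a, c} := fun e => hnot (by
    rw [e]
    exact ⟨1, fun i hi => ⟨i, hi, by rw [map_one, Module.End.one_apply]⟩⟩)
  have d5 : ({a, b} : Set I) ≠ {c} := fun e => by rw [e, e4] at e2; omega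
  have d6 : ({a, c} : Set I) ≠ {c} := fun e => by rw [e, e4] at e3; omega
  have hnode : OC cs h X {a} := oc_node R a b hab
  refine good5_of R hG hT {{a}, {a, b}, {a, c}, {c}} ?_ ?_ (lamSet_one R) ?_
  · intro K hK
    simp only [Finset.mem_insert, Finset.mem_singleton] at hK
    rcases hK with rfl | rfl | rfl | rfl
    · exact ⟨⟨a, rfl⟩, hnode⟩
    · exact ⟨⟨a, Or.inl rfl⟩, oc_two R hab⟩
    · exact ⟨⟨a, Or.inl rfl⟩, oc_orth R hnode hc hac⟩
    · exact ⟨⟨c, rfl⟩, hc⟩
  · intro K hK J hJ hKJ hA
    have hcd := le_antisymm hA.1.ncard hA.2.ncard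
    simp only [Finset.mem_insert, Finset.mem_singleton] at hK hJ
    rcases hK with rfl | rfl | rfl | rfl <;> rcases hJ with rfl | rfl | rfl | rfl <;>
      first
        | exact hKJ rfl
        | (simp only [e1, e2, e3, e4] at hcd; omega)
        | exact hnot hA.1
        | exact hnot hA.2
        | exact hnot' hA.1
        | exact hnot' hA.2
  · rw [Finset.card_singleton, Finset.card_insert_of_notMem (by simp [d1, d2, d3]),
      Finset.card_insert_of_notMem (by simp [d4, d5]), Finset.card_insert_of_notMem (by simp [d6]),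
      Finset.card_singleton]

end rgd

end Cfsg.Agent.H967.K4
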