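import Cfsg.Agent.H967.K4.Om8
import Cfsg.Agent.H612.K4.SzU3
import Cfsg.Agent.H726.Four.PsuSix
import Cfsg.Agent.H726.Four.WittTor
import Cfsg.Agent.H507.K4.PslTwo
import Cfsg.Agent.H507.K4.PslThree
import Cfsg.Agent.H151.K4.TwF4
import Cfsg.Agent.H151.K4.PSU45
import Cfsg.Agent.H151.K4.PSU42
import Cfsg.Agent.H687.FourK.Rows
import Cfsg.Agent.H345.K4.PSL34
import Cfsg.Agent.H740.K4.Equiv

/-!
# Five good characters of the groups of Lie type of characteristic two (TEAM K4; assembly helper967)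

* `good_lie_two` : every simple group of Lie type of characteristic two other than `PSL(2, 4)` and `PSL(3, 2)`.
-/

set_option autoImplicit false

open Cfsg

namespace Cfsg.Agent.H967.K4

open Cfsg.Agent.H601.K4

universe u

theorem card_two_pow (F : Type*) [Field F] [Fintype F] [CharP F 2] : ∃ k : ℕ, Fintype.card F = 2 ^ k := by
  obtain ⟨k, -, hk⟩ := FiniteField.card F 2
  exact ⟨k, hk⟩

theorem card_cases (F : Type*) [Field F] [Fintype F] [CharP F 2] :
    Fintype.card F = 2 ∨ Fintype.card F = 4 ∨ 8 ≤ Fintype.card F := by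
  obtain ⟨k, hk⟩ := card_two_pow F
  have h1 : 1 < Fintype.card F := Fintype.one_lt_card
  rcases k with _ | _ | _ | k
  · rw [hk] at h1
    norm_num at h1
  · exact Or.inl (by rw [hk]; norm_num)
  · exact Or.inr (Or.inl (by rw [hk]; norm_num))
  · refine Or.inr (Or.inr ?_)
    rw [hk]
    have : 1 ≤ 2 ^ k := Nat.one_le_two_pow
    calc 8 = 2 ^ 3 * 1 := by norm_num
      _ ≤ 2 ^ 3 * 2 ^ k := Nat.mul_le_mul_left _ this
      _ = 2 ^ (k + 1 + 1 + 1) := by ring

/-- **The simple groups of Lie type of characteristic two.** -/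
theorem good_lie_two
    {S : Type u} [Group S] [Finite S] [IsSimpleGroup S] (hS : IsLieTypeChar 2 S) :
    Good5 S ∨
      (∃ (F : Type) (_ : Field F) (_ : Fintype F) (_ : CharP F 2), Fintype.card F = 4 ∧
        Nonempty (S ≃* Matrix.ProjectiveSpecialLinearGroup (Fin 2) F)) ∨
      ∃ (F : Type) (_ : Field F) (_ : Fintype F) (_ : CharP F 2), Fintype.card F = 2 ∧
        Nonempty (S ≃* Matrix.ProjectiveSpecialLinearGroup (Fin 3) F) := by
  have hT := H742.TwoC.twoC_charTwo hS
  rcases lie_two hS with h | h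
  · exact Or.inl h
  rcases h with ⟨hn, h4, e⟩ | ⟨hm, h3, e⟩ | ⟨hF, hn, hn7, h32, e⟩ | ⟨hab, e⟩ | ⟨h3, e⟩ | ⟨hq, hK, e⟩ | h | h
  · rename_i F _ _ _ n
    rcases hn with rfl | rfl
    · rcases card_cases F with h2 | h2 | h2
      · exact absurd (h4 rfl) (by omega)
      · exact Or.inr (Or.inl ⟨F, inferInstance, inferInstance, inferInstance, h2, ⟨e⟩⟩)
      · exact Or.inl (H740.K4.good5_of_equiv e (H507.K4.good5_psl2 F h2))
    · rcases card_cases F with h2 | h2 | h2
      · exact Or.inr (Or.inr ⟨F, inferInstance, inferInstance, inferInstance, h2, ⟨e⟩⟩)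
      · exact Or.inl (H345.K4.PSL34.good5_psl34 F h2 e)
      · exact Or.inl (H507.K4.good5_psl3 F h2 e)
  · rcases hm with rfl | rfl
    · exact Or.inl (H687.FourK.row_PSp4 hS (h3 rfl) e)
    · exact Or.inl (H726.Four.good5_psp_three e hT)
  · rename_i F _ _ _ n q
    left
    have hsim : IsSimpleGroup (PSU n F q) := e.symm.isSimpleGroup
    have hfin : Finite (PSU n F q) := Finite.of_equiv S e.toEquiv
    have hq2 : 2 ≤ q := by
      have h1 : 1 < Fintype.card F := Fintype.one_lt_card
      rw [hF] at h1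
      by_contra hcon
      have : q = 0 ∨ q = 1 := by omega
      rcases this with rfl | rfl <;> norm_num at h1
    obtain rfl | rfl | rfl | rfl | rfl : n = 3 ∨ n = 4 ∨ n = 5 ∨ n = 6 ∨ n = 7 := by omega
    · exact H740.K4.good5_of_equiv e (H612.K4.good5_psu3 hF (by omega))
    · rcases Nat.lt_or_ge q 3 with h3 | h3
      · obtain rfl : q = 2 := by omega
        exact H151.K4.PSU45.good5_psu4_two (by rw [hF]; norm_num) e
      · exact H740.K4.good5_of_equiv e (H151.K4.PSU45.good5_psu4 hF h3 (hT.congr e))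
    · exact H740.K4.good5_of_equiv e (H151.K4.PSU45.good5_psu5 hF (hT.congr e))
    · exact H726.Four.good5_psu_six hF e hT
    · exact H726.Four.good5_psu_seven hF e hT
  · exact Or.inl (H740.K4.good5_of_equiv e (good5_om8 hab (hT.congr e)))
  · exact Or.inl (H687.FourK.row_G2 hS h3 e)
  · exact Or.inl (H687.FourK.row_3D4 hS hq hK e)
  · exact Or.inl (H612.K4.good5_suzuki h)
  · exact Or.inl (H151.K4.TwF4.good5 h hT)

end Cfsg.Agent.H967.K4
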