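import Cfsg.Agent.H967.K4.Sig
import Cfsg.Agent.H246.Dl.KTypeMJ

/-!
# `σ`-fixed characters of odd degree of given Harish-Chandra type (helper967, TEAM K4)

`R` a root group datum of characteristic two.

* `exists_odd_HT` : a cuspidal `σ`-fixed character of odd degree of `M_K` gives one of `Y`, of type `K`;
* `exists_odd_lam`, `lam_conj` : the characters over the characters of the torus.
-/

set_option autoImplicit false

open scoped ComplexConjugate
open Cfsg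

namespace Cfsg.Agent.H967.K4

open Cfsg.Agent.OddOrderCharacters.Clifford Cfsg.Agent.Characters Cfsg.Agent.H601.K4
open CoxeterSystem Cfsg.Agent.ChevalleyStructure.CoxeterGeom Cfsg.Agent.Tits.Roots Cfsg.Agent.Tits.Core
  Cfsg.Agent.Tits.Exchange Cfsg.Agent.Nodes.Reps Cfsg.Agent.Nodes.BNOf Cfsg.Agent.Nodes.StabComb
  Cfsg.Agent.Nodes.Bruhat Cfsg.Agent.Nodes.OppDec Cfsg.Agent.Nodes.LeviDec Cfsg.Agent.H53.HC
  Cfsg.Agent.H246.Dl
open scoped Pointwise

section proj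

variable {P : Type*} [Group P]

theorem mem_sup (V M : Subgroup P) (hn : M ≤ Subgroup.normalizer (V : Set P)) {g : P} (hg : g ∈ V ⊔ M) :
    ∃ v ∈ V, ∃ m ∈ M, g = v * m := by
  have h1 : g ∈ ((V ⊔ M : Subgroup P) : Set P) := hg
  rw [Subgroup.coe_mul_of_right_le_normalizer_left _ _ hn, Set.mem_mul] at h1
  obtain ⟨v, hv, m, hm, e⟩ := h1
  exact ⟨v, hv, m, hm, e.symm⟩

theorem mul_mem_sup (V M : Subgroup P) {v m : P} (hv : v ∈ V) (hm : m ∈ M) : v * m ∈ V ⊔ M :=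
  mul_mem (le_sup_left (a := V) (b := M) hv) (le_sup_right (a := V) (b := M) hm)

/-- the projection of `V M` onto `M` -/
theorem exists_proj (V M : Subgroup P) (hn : M ≤ Subgroup.normalizer (V : Set P))
    (hVM : ∀ x, x ∈ V → x ∈ M → x = 1) :
    ∃ π : ↥(V ⊔ M) →* M, ∀ (v : P) (hv : v ∈ V) (m : M), π ⟨v * m, mul_mem_sup V M hv m.2⟩ = m := by
  let D : Subgroup P := V ⊔ M
  have hVD : V ≤ D := le_sup_left
  have hMD : M ≤ D := le_sup_right
  let V' : Subgroup D := V.subgroupOf D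
  have hV' : V'.Normal := (Subgroup.normal_subgroupOf_iff_le_normalizer hVD).2
    (sup_le Subgroup.le_normalizer hn)
  let f : M →* D ⧸ V' := (QuotientGroup.mk' V').comp (Subgroup.inclusion hMD)
  have hinj : Function.Injective f := by
    rw [injective_iff_map_eq_one]
    intro l hl
    have h1 : Subgroup.inclusion hMD l ∈ V' := (QuotientGroup.eq_one_iff _).1 hl
    rw [Subgroup.mem_subgroupOf] at h1
    exact Subtype.ext (hVM _ h1 l.2)
  have hsurj : Function.Surjective f := by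
    intro q
    obtain ⟨⟨g, hg⟩, rfl⟩ := QuotientGroup.mk'_surjective V' q
    obtain ⟨v, hv, m, hm, rfl⟩ := mem_sup V M hn hg
    refine ⟨⟨m, hm⟩, ?_⟩
    refine (QuotientGroup.eq (s := V')).2 ?_
    rw [Subgroup.mem_subgroupOf]
    have e : ((((Subgroup.inclusion hMD ⟨m, hm⟩)⁻¹ * ⟨v * m, hg⟩ : ↥D)) : P) = m⁻¹ * v * m := by
      change m⁻¹ * (v * m) = _
      group
    rw [e]
    have := (Subgroup.mem_normalizer_iff.1 (inv_mem (hn hm)) v).1 hv
    rwa [inv_inv] at this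
  let e : M ≃* D ⧸ V' := MulEquiv.ofBijective f ⟨hinj, hsurj⟩
  refine ⟨e.symm.toMonoidHom.comp (QuotientGroup.mk' V'), ?_⟩
  intro v hv m
  have e1 : (⟨v * m, mul_mem (hVD hv) (hMD m.2)⟩ : D) = ⟨v, hVD hv⟩ * Subgroup.inclusion hMD m := rfl
  change e.symm (QuotientGroup.mk' V' ⟨v * m, mul_mem (hVD hv) (hMD m.2)⟩) = m
  rw [e1, map_mul]
  have h1 : QuotientGroup.mk' V' ⟨v, hVD hv⟩ = 1 := by
    refine (QuotientGroup.eq_one_iff _).2 ?_
    rw [Subgroup.mem_subgroupOf]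
    exact hv
  rw [h1, one_mul]
  exact e.symm_apply_apply m

/-- the multiplicity sum -/
noncomputable def ms (V M : Subgroup P) [Fintype V] [Fintype M] (χ : P → ℂ) (θ : M → ℂ) : ℂ :=
  ∑ v : V, ∑ m : M, χ (v * m) * conj (θ m)

theorem ms_eq (V M : Subgroup P) (hn : M ≤ Subgroup.normalizer (V : Set P)) (hVM : ∀ x, x ∈ V → x ∈ M → x = 1)
    {π : ↥(V ⊔ M) →* M} (hπ : ∀ (v : P) (hv : v ∈ V) (m : M), π ⟨v * m, mul_mem_sup V M hv m.2⟩ = m)
    [Fintype V] [Fintype M] [Fintype ↥(V ⊔ M)] (χ : P → ℂ) (θ : M → ℂ) :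
    ms V M χ θ = (Nat.card ↥(V ⊔ M) : ℂ) * classInner (fun d : ↥(V ⊔ M) => χ d) (θ ∘ π) := by
  rw [Core.classInner_def, mul_inv_cancel_left₀ Core.card_ne_zero_complex, ms]
  have hb : Function.Bijective (fun x : V × M => (⟨x.1 * x.2, mul_mem_sup V M x.1.2 x.2.2⟩ : ↥(V ⊔ M))) := by
    constructor
    · rintro ⟨a, c⟩ ⟨a', c'⟩ e
      have e1 : (a : P) * c = a' * c' := congrArg Subtype.val e
      have e2 : (a' : P)⁻¹ * a = c' * (c : P)⁻¹ := by
        rw [inv_mul_eq_iff_eq_mul, ← mul_assoc, ← e1, mul_inv_cancel_right]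
      have e3 := hVM ((a' : P)⁻¹ * a) (mul_mem (inv_mem a'.2) a.2) (by rw [e2]; exact mul_mem c'.2 (inv_mem c.2))
      have e4 : (a : P) = a' := (inv_mul_eq_one.1 e3).symm
      have e5 : (c : P) = c' := by
        rw [e3] at e2
        exact (mul_inv_eq_one.1 e2.symm).symm
      rw [Prod.mk.injEq]
      exact ⟨Subtype.ext e4, Subtype.ext e5⟩
    · rintro ⟨g, hg⟩
      obtain ⟨a, ha, c, hc, rfl⟩ := mem_sup V M hn hg
      exact ⟨(⟨a, ha⟩, ⟨c, hc⟩), rfl⟩
  rw [← Finset.sum_product', Finset.univ_product_univ]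
  refine Fintype.sum_bijective _ hb _ _ ?_
  rintro ⟨v, m⟩
  simp only [Function.comp_apply]
  rw [hπ v v.2 m]

/-- **Characters of odd degree over a character of `M`, inflated to `V M`.** -/
theorem exists_odd_over [Fintype P] (V M : Subgroup P) [Fintype V] [Fintype M]
    (hn : M ≤ Subgroup.normalizer (V : Set P)) (hVM : ∀ x, x ∈ V → x ∈ M → x = 1) (hidx : Odd (V ⊔ M).index)
    {θ : M → ℂ} (hθ : OddIrr θ) (hs : SF θ) :
    ∃ χ : P → ℂ, OddIrr χ ∧ SF χ ∧ ms V M χ θ ≠ 0 := by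
  classical
  obtain ⟨π, hπ⟩ := exists_proj V M hn hVM
  have : Fintype ↥(V ⊔ M) := Fintype.ofFinite _
  have hθc : IsCharacter _ (θ ∘ π) := Core.isCharacter_comp π (Core.isIrr_isCharacter hθ.1)
  have hΦ := Cfsg.Agent.S0148.result (V ⊔ M) _ hθc
  obtain ⟨d, hd⟩ : ∃ d : ℕ, θ 1 = d := Core.isCharacter_apply_one (Core.isIrr_isCharacter hθ.1)
  have hdo : Odd d := by
    have h1 : charDegree θ = d := by rw [charDegree, hd]; simp
    have h2 := hθ.2
    rw [h1] at h2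
    rwa [← Nat.not_even_iff_odd, even_iff_two_dvd]
  have h1 : indFun (V ⊔ M) (θ ∘ π) 1 = (((V ⊔ M).index * d : ℕ) : ℂ) := by
    rw [Cfsg.Agent.OddOrderCharacters.IndRes.indFun_apply_one, Function.comp_apply, map_one, hd]
    push_cast
    rfl
  obtain ⟨χ, hχ, hsχ, hne⟩ := exists_odd_const hΦ h1 (hidx.mul hdo) (hs.comp π).ind
  refine ⟨χ, hχ, hsχ, ?_⟩
  rw [classInner_indFun _ _ _ (Core.isIrr_isClassFunction hχ.1)] at hne
  rw [ms_eq V M hn hVM hπ]
  exact mul_ne_zero Core.card_ne_zero_complex (classInner_symm_ne hne)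

/-- fixed vectors from a multiplicity sum -/
theorem hasFix_of_ms [Finite P] (U T : Subgroup P) [Fintype U] [Fintype T]
    (hn : T ≤ Subgroup.normalizer (U : Set P)) {lam : T → ℂ} {χ : P → ℂ} (hχ : IsIrrCharacter P χ)
    (hne : ms U T χ lam ≠ 0) : HasFix χ U := by
  classical
  have : Fintype P := Fintype.ofFinite P
  let D : Subgroup P := U ⊔ T
  have hUD : U ≤ D := le_sup_left
  have hTD : T ≤ D := le_sup_right
  have : Fintype D := Fintype.ofFinite _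
  have hN : (U.subgroupOf D).Normal :=
    (Subgroup.normal_subgroupOf_iff_le_normalizer hUD).2 (sup_le Subgroup.le_normalizer hn)
  have : Finite (IrrCharacter D) := Core.finite_irr
  have : Fintype (IrrCharacter D) := Fintype.ofFinite _
  have hres : IsCharacter D (fun t : D => χ t) := Core.isCharacter_comp D.subtype (Core.isIrr_isCharacter hχ)
  obtain ⟨m, hm⟩ := Core.exists_nat_comb hres
  have h1 : ms U T χ lam = ∑ ψ : IrrCharacter D, (m ψ : ℂ) * ∑ v : U, ∑ x : T,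
        (ψ : D → ℂ) ⟨v * x, mul_mem (hUD v.2) (hTD x.2)⟩ * conj (lam x) := by
    symm
    rw [ms]
    simp only [Finset.mul_sum]
    rw [Finset.sum_comm]
    refine Finset.sum_congr rfl fun v _ => ?_
    rw [Finset.sum_comm]
    refine Finset.sum_congr rfl fun x _ => ?_
    have h2 := congrFun hm ⟨v * x, mul_mem (hUD v.2) (hTD x.2)⟩
    simp only [Finset.sum_apply, nsmul_eq_mul] at h2
    have h3 : χ (v * x) = ∑ ψ : IrrCharacter D, (m ψ : ℂ) *
      (ψ : D → ℂ) ⟨v * x, mul_mem (hUD v.2) (hTD x.2)⟩ := h2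
    rw [h3, Finset.sum_mul]
    refine Finset.sum_congr rfl fun ψ _ => ?_
    ring
  rw [h1] at hne
  obtain ⟨ψ, -, hψ⟩ := Finset.exists_ne_zero_of_sum_ne_zero hne
  have hm0 : (m ψ : ℂ) ≠ 0 := left_ne_zero_of_mul hψ
  have hs0 := right_ne_zero_of_mul hψ
  have : Fintype (U.subgroupOf D) := Fintype.ofFinite _
  have htriv : ∑ v : U, (ψ : D → ℂ) ⟨v, hUD v.2⟩ ≠ 0 := by
    intro h0
    apply hs0
    rw [Finset.sum_comm]
    refine Finset.sum_eq_zero fun x _ => ?_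
    rw [← Finset.sum_mul]
    have h2 : ∑ v : U.subgroupOf D, (ψ : D → ℂ) v = 0 := by
      rw [← h0]
      exact Fintype.sum_equiv (Subgroup.subgroupOfEquivOfLe hUD).toEquiv _ _ fun v => rfl
    have h3 := sum_mul_eq_zero _ ψ.2 h2 (⟨x, hTD x.2⟩ : D)
    have h4 : ∑ v : U, (ψ : D → ℂ) ⟨v * x, mul_mem (hUD v.2) (hTD x.2)⟩ = 0 := by
      rw [← h3]
      exact Fintype.sum_equiv (Subgroup.subgroupOfEquivOfLe hUD).symm.toEquiv _ _ fun v => rfl
    rw [h4, zero_mul]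
  refine hasFix_of_constituent hUD (Core.isIrr_isCharacter hχ) ψ.2 ?_ htriv
  apply classInner_symm_ne
  rw [hm, Core.classInner_sum_nsmul_irr]
  exact hm0

end proj

section rgd

variable {I W Y : Type*} [Fintype I] [DecidableEq I] [Group W] [Group Y] {M : CoxeterMatrix I}
  {cs : CoxeterSystem M W} {A : I → I → ℤ} {h : IsCartan M A} {T : Subgroup Y} {n : I → Y}
  {X : (I → ℤ) → Subgroup Y}

variable (R : RGD cs h 2 T n X)

include R

local notation "UP" => RGD.Sup X (RGD.Pos cs h)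

theorem odd_index_U [Finite W] [Finite Y] (hG : GG cs h T X = ⊤) : Odd (RGD.Sup X (RGD.Pos cs h)).index := by
  have : Fact (Nat.Prime 2) := ⟨Nat.prime_two⟩
  obtain ⟨P, hP⟩ := Cfsg.Agent.BpExc.TorRgd.exists_sylow_eq R hG
  rw [← hP, ← Nat.not_even_iff_odd, even_iff_two_dvd]
  exact P.not_dvd_index

theorem odd_index_of_le [Finite W] [Finite Y] (hG : GG cs h T X = ⊤) {D : Subgroup Y}
    (hD : RGD.Sup X (RGD.Pos cs h) ≤ D) : Odd D.index :=
  (odd_index_U R hG).of_dvd_nat (Subgroup.index_dvd_of_le hD)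

/-- **Types.** -/
theorem exists_odd_HT [Finite W] [Finite Y] (hG : GG cs h T X = ⊤) (K : Set I) {θ : ↥(MJ cs h X K) → ℂ}
    (hθ : OddIrr θ) (hs : SF θ)
    (hc : ∀ i ∈ K, ∀ [Fintype (rad cs h X K i)], ∑ u : rad cs h X K i, θ ⟨u, rad_le_MJ K i u.2⟩ = 0) :
    ∃ χ : Y → ℂ, OddIrr χ ∧ SF χ ∧ HT cs h X χ K := by
  classical
  have : Fintype Y := Fintype.ofFinite Y
  have : Fintype (VJ cs h X K) := Fintype.ofFinite _
  have : Fintype (MJ cs h X K) := Fintype.ofFinite _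
  have hn : MJ cs h X K ≤ Subgroup.normalizer (VJ cs h X K : Set Y) :=
    le_trans (le_trans (MJ_le_LJ (T := T) K) LJ_le_PJ) (PJ_le_normalizer_VJ R K)
  have hVM : ∀ x, x ∈ VJ cs h X K → x ∈ MJ cs h X K → x = 1 := fun x h1 h2 =>
    eq_one_of_mem_LJ_of_mem_VJ (T := T) R (MJ_le_LJ K h2) h1
  have hU : RGD.Sup X (RGD.Pos cs h) ≤ VJ cs h X K ⊔ MJ cs h X K := by
    intro g hg
    obtain ⟨u, hu, v, hv, rfl⟩ := (mem_U_iff R (J := K)).1 hg
    exact mul_mem (le_sup_right (a := VJ cs h X K) (RGD.Sup_mono (PosJ_subset K) hu))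
      (le_sup_left (b := MJ cs h X K) hv)
  obtain ⟨χ, h1, h2, h3⟩ := exists_odd_over (VJ cs h X K) (MJ cs h X K) hn hVM (odd_index_of_le R hG hU) hθ hs
  exact ⟨χ, h1, h2, HT.of_sum R hG K hθ.1 hc h1.1 h3⟩

theorem T_inf_U [Finite W] [Finite Y] {x : Y} (h1 : x ∈ RGD.Sup X (RGD.Pos cs h)) (h2 : x ∈ T) : x = 1 := by
  have h3 := R.isPGroup_Upos
  obtain ⟨k, hk⟩ := IsPGroup.iff_orderOf.1 h3 ⟨x, h1⟩
  rw [Subgroup.orderOf_mk] at hk
  have h4 : orderOf x ∣ Nat.card T := by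
    have := orderOf_dvd_natCard (⟨x, h2⟩ : T)
    rwa [Subgroup.orderOf_mk] at this
  have h5 : (orderOf x).Coprime (orderOf x) := by
    nth_rewrite 2 [hk]
    exact Nat.Coprime.pow_right _ (Nat.Coprime.coprime_dvd_left h4 R.tcop)
  rw [Nat.coprime_self] at h5
  exact orderOf_eq_one_iff.1 h5

/-- **Characters over a character of the torus.** -/
theorem exists_odd_lam [Finite W] [Finite Y] (hG : GG cs h T X = ⊤) [Fintype (RGD.Sup X (RGD.Pos cs h))]
    [Fintype T] {lam : T → ℂ} (hl : OddIrr lam) :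
    ∃ χ : Y → ℂ, OddIrr χ ∧ SF χ ∧ ms (RGD.Sup X (RGD.Pos cs h)) T χ lam ≠ 0 := by
  classical
  have : Fintype Y := Fintype.ofFinite Y
  have ho : Odd (Nat.card T) := by
    rw [← Nat.coprime_two_right]
    exact R.tcop
  exact exists_odd_over _ _ R.T_le_normalizer_U (fun x h1 h2 => T_inf_U R h1 h2)
    (odd_index_of_le R hG le_sup_left) hl (SF.of_odd ho _)

/-- **A common constituent: the characters of the torus are conjugate under the Weyl group.** -/
theorem lam_conj [Finite W] [Finite Y] (hG : GG cs h T X = ⊤) [Fintype (RGD.Sup X (RGD.Pos cs h))]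
    [Fintype T] {lam mu : T → ℂ} (hl : IsIrrCharacter T lam) (hm : IsIrrCharacter T mu) {χ : Y → ℂ}
    (hχ : IsIrrCharacter Y χ) (h1 : ms (RGD.Sup X (RGD.Pos cs h)) T χ lam ≠ 0)
    (h2 : ms (RGD.Sup X (RGD.Pos cs h)) T χ mu ≠ 0) :
    ∃ (w : W) (g : Y) (_ : Rp cs R.nsys w g) (hg : ∀ t ∈ T, g⁻¹ * t * g ∈ T),
      ∑ t : T, lam t * conj (mu ⟨g⁻¹ * t * g, hg t t.2⟩) ≠ 0 := by
  classical
  have : Fintype Y := Fintype.ofFinite Y
  have hn := R.T_le_normalizer_U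
  have hVM : ∀ x, x ∈ UP → x ∈ T → x = 1 := fun x h1 h2 => T_inf_U R h1 h2
  obtain ⟨π, hπ⟩ := exists_proj UP T hn hVM
  have : Fintype ↥(UP ⊔ T) := Fintype.ofFinite _
  rw [ms_eq UP T hn hVM hπ] at h1 h2
  have h1' := classInner_symm_ne (right_ne_zero_of_mul h1)
  have h2' := classInner_symm_ne (right_ne_zero_of_mul h2)
  have hlc : IsCharacter _ (lam ∘ π) := Core.isCharacter_comp π (Core.isIrr_isCharacter hl)
  have hmc : IsCharacter _ (mu ∘ π) := Core.isCharacter_comp π (Core.isIrr_isCharacter hm)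
  obtain ⟨x, hx⟩ := exists_tw (UP ⊔ T) (UP ⊔ T) hlc hmc hχ h1' h2'
  obtain ⟨w, b₁, hb₁, k, hk, b₂, hb₂, e⟩ := (mem_GG R).1 (show x ∈ GG cs h T X by rw [hG]; exact Subgroup.mem_top x)
  have hB : RGD.B cs h T X ≤ UP ⊔ T := by
    rw [sup_comm]
    exact le_rfl
  rw [e, tw_mul _ _ (Core.isCharacter_isClassFunction hlc) (Core.isCharacter_isClassFunction hmc)
    (hB hb₁) (hB hb₂)] at hx
  have hT : ∀ t ∈ T, k⁻¹ * t * k ∈ T := by
    intro t ht
    have h3 := cj_T R hk.inv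
    have h4 : k⁻¹ * t * k⁻¹⁻¹ ∈ cj k⁻¹ T := conj_mem_cj.2 ht
    rw [h3, inv_inv] at h4
    exact h4
  refine ⟨w, k, hk, hT, fun h0 => hx ?_⟩
  refine tw_eq_zero_of_sub _ _ hlc hmc k T le_sup_right (fun l hl => le_sup_right (a := UP) (hT l hl)) ?_
  rw [← h0]
  refine Finset.sum_congr rfl fun t _ => ?_
  have h3 : ∀ (s : Y) (hs : s ∈ T), π ⟨s, le_sup_right (a := UP) hs⟩ = ⟨s, hs⟩ := by
    intro s hs
    have h4 := hπ 1 (one_mem UP) ⟨s, hs⟩
    rw [← h4]
    congr 1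
    exact Subtype.ext (one_mul s).symm
  simp only [Function.comp_apply]
  rw [h3 t t.2, h3 _ (hT t t.2)]

end rgd

end Cfsg.Agent.H967.K4
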