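import Cfsg.Agent.H601.K4.Defs
import Cfsg.Agent.H601.OddDeg.Block
import Cfsg.Agent.H618.Sigma
import Cfsg.Agent.OddOrderCharacters.IndRes
import Cfsg.Agent.OddOrderCharacters.Clifford
import Cfsg.Agent.S0148

/-!
# The parity lemma for `σ`-fixed characters of odd degree (helper967, TEAM K4)

* `SF χ` : `χ (u ^ 3 * s) = χ (u * s)` for commuting `u` (a `2`-element) and `s` (odd order);
* `SF.sigFix`, `SF.comp`, `SF.ind`;
* `exists_odd_const` : a `σ`-fixed character of odd degree has a `σ`-fixed irreducible constituent of odd degree.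
-/

set_option autoImplicit false

open scoped ComplexConjugate
open Cfsg

namespace Cfsg.Agent.H967.K4

open Cfsg.Agent.OddOrderCharacters.Clifford Cfsg.Agent.Characters Cfsg.Agent.H601.K4 Cfsg.Agent.H618.Sigma

section SF

variable {G : Type*} [Group G]

/-- invariant under `u s ↦ u³ s` -/
def SF (χ : G → ℂ) : Prop :=
  ∀ u s : G, Commute u s → (∃ j : ℕ, orderOf u = 2 ^ j) → Odd (orderOf s) → χ (u ^ 3 * s) = χ (u * s)

theorem two_pow_map {H : Type*} [Group H] (f : H →* G) {u : H} (hu : ∃ j : ℕ, orderOf u = 2 ^ j) :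
    ∃ j : ℕ, orderOf (f u) = 2 ^ j := by
  obtain ⟨j, hj⟩ := hu
  have h1 : orderOf (f u) ∣ 2 ^ j := by rw [← hj]; exact orderOf_map_dvd f u
  obtain ⟨i, -, hi⟩ := (Nat.dvd_prime_pow Nat.prime_two).1 h1
  exact ⟨i, hi⟩

theorem odd_map {H : Type*} [Group H] (f : H →* G) {s : H} (hs : Odd (orderOf s)) : Odd (orderOf (f s)) :=
  hs.of_dvd_nat (orderOf_map_dvd f s)

theorem SF.comp {H : Type*} [Group H] (f : H →* G) {χ : G → ℂ} (h : SF χ) : SF (χ ∘ f) := by
  intro u s hus hu hs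
  simp only [Function.comp_apply, map_mul, map_pow]
  exact h (f u) (f s) (hus.map f) (two_pow_map f hu) (odd_map f hs)

theorem SF.sigFix [Finite G] {χ : G → ℂ} (h : SF χ) : SigFix χ := by
  intro k h2 h3 g
  obtain ⟨x, y, rfl, hxy, hx, hy⟩ := exists_decomp g
  rw [hxy.mul_pow, h2 x hx, h3 y hy]
  exact h x y hxy hx hy

/-- the exponent of the cubing automorphism exists -/
theorem exists_cube (G : Type*) [Group G] [Finite G] : ∃ k : ℕ, Cube G k := by
  obtain ⟨a, b, hb, hab⟩ := Nat.exists_eq_two_pow_mul_odd (n := Nat.card G) Nat.card_pos.ne'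
  have hco : Nat.Coprime (2 ^ a) b := Nat.Coprime.pow_left _ (Nat.coprime_two_left.2 hb)
  obtain ⟨k, hk1, hk2⟩ := Nat.chineseRemainder hco 3 1
  refine ⟨k, ⟨fun g hg => ?_, fun g hg => ?_⟩⟩
  · obtain ⟨j, hj⟩ := hg
    have h1 : 2 ^ j ∣ 2 ^ a := by
      have h2 : 2 ^ j ∣ 2 ^ a * b := by rw [← hab, ← hj]; exact orderOf_dvd_natCard g
      exact (Nat.Coprime.dvd_of_dvd_mul_right (Nat.Coprime.pow_left _ (Nat.coprime_two_left.2 hb)) h2)
    exact pow_eq_pow_iff_modEq.2 (by rw [hj]; exact hk1.of_dvd h1)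
  · have h1 : orderOf g ∣ b := by
      have h2 : orderOf g ∣ 2 ^ a * b := by rw [← hab]; exact orderOf_dvd_natCard g
      refine Nat.Coprime.dvd_of_dvd_mul_left ?_ h2
      exact Nat.Coprime.pow_right _ (Nat.coprime_two_right.2 hg)
    have h2 : g ^ k = g ^ 1 := pow_eq_pow_iff_modEq.2 (hk2.of_dvd h1)
    rw [h2, pow_one]

theorem SF.apply_pow [Finite G] {χ : G → ℂ} (h : SF χ) {k : ℕ} (hk : Cube G k) (g : G) : χ (g ^ k) = χ g :=
  h.sigFix k hk.two hk.odd g

theorem SF.of_pow [Finite G] {χ : G → ℂ} {k : ℕ} (hk : Cube G k) (h : ∀ g, χ (g ^ k) = χ g) : SF χ := by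
  intro u s hus hu hs
  have h1 : u ^ 3 * s = (u * s) ^ k := by rw [hus.mul_pow, hk.two u hu, hk.odd s hs]
  rw [h1, h]

/-- the inverse of `g ↦ g ^ k` -/
theorem exists_inv_pow [Finite G] {k : ℕ} (hk : Cube G k) : ∃ m : ℕ, ∀ g : G, (g ^ k) ^ m = g := by
  obtain ⟨n, hn⟩ := hk.exists_iter
  refine ⟨k ^ (2 ^ n - 1), fun g => ?_⟩
  rw [← pow_mul, ← pow_succ', Nat.sub_add_cancel Nat.one_le_two_pow, hn]

theorem pow_bijective [Finite G] {k : ℕ} (hk : Cube G k) : Function.Bijective fun g : G => g ^ k := by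
  obtain ⟨m, hm⟩ := exists_inv_pow hk
  refine Finite.injective_iff_bijective.1 fun a b hab => ?_
  have h1 : a ^ k = b ^ k := hab
  rw [← hm a, ← hm b, h1]

theorem SF.ext [Finite G] {H : Subgroup G} {θ : H → ℂ} (h : SF θ) {k : ℕ} (hk : Cube G k) (z : G) :
    extendByZero H θ (z ^ k) = extendByZero H θ z := by
  by_cases hz : z ∈ H
  · rw [ext_apply_mem H θ z hz, ext_apply_mem H θ _ (pow_mem hz k)]
    exact h.apply_pow (hk.subgroup H) ⟨z, hz⟩
  · rw [ext_apply_not_mem H θ z hz, ext_apply_not_mem H θ _ (fun h => hz ?_)]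
    obtain ⟨m, hm⟩ := exists_inv_pow hk
    rw [← hm z]
    exact pow_mem h m

/-- Induced functions. -/
theorem SF.ind [Fintype G] {H : Subgroup G} {θ : H → ℂ} (h : SF θ) : SF (indFun H θ) := by
  obtain ⟨k, hk⟩ := exists_cube G
  refine SF.of_pow hk fun g => ?_
  rw [S0150.indFun_apply, S0150.indFun_apply]
  congr 1
  refine Finset.sum_congr rfl fun x _ => ?_
  have e : x⁻¹ * g ^ k * x = (x⁻¹ * g * x) ^ k := by
    have := conj_pow (i := k) (a := x⁻¹) (b := g)
    rw [inv_inv] at this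
    exact this.symm
  rw [e, h.ext hk]

theorem SF.mul {χ ψ : G → ℂ} (h1 : SF χ) (h2 : SF ψ) : SF (fun g => χ g * ψ g) := by
  intro u s hus hu hs
  simp only
  rw [h1 u s hus hu hs, h2 u s hus hu hs]

theorem SF.one : SF (1 : G → ℂ) := fun _ _ _ _ _ => rfl

/-- characters of groups of odd order -/
theorem SF.of_odd [Finite G] (ho : Odd (Nat.card G)) (χ : G → ℂ) : SF χ := by
  intro u s _ hu _
  obtain ⟨j, hj⟩ := hu
  have h1 : Odd (2 ^ j) := by rw [← hj]; exact ho.of_dvd_nat (orderOf_dvd_natCard u)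
  have h2 : j = 0 := by
    by_contra h
    exact (Nat.not_even_iff_odd.2 h1) (Even.pow_of_ne_zero even_two h)
  rw [h2, pow_zero] at hj
  rw [orderOf_eq_one_iff.1 hj, one_pow]

end SF

section parity

universe u

variable {G : Type u} [Group G]

/-- **The parity lemma.** -/
theorem exists_odd_const [Fintype G] {Φ : G → ℂ} (hΦ : IsCharacter G Φ) {n : ℕ} (hn : Φ 1 = n) (ho : Odd n)
    (hs : SF Φ) : ∃ χ : G → ℂ, OddIrr χ ∧ SF χ ∧ classInner Φ χ ≠ 0 := by
  classical
  obtain ⟨k, hk⟩ := exists_cube G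
  have : Finite (IrrCharacter G) := Core.finite_irr
  have : Fintype (IrrCharacter G) := Fintype.ofFinite _
  obtain ⟨m, hm⟩ := Core.exists_nat_comb hΦ
  have hmi : ∀ χ : IrrCharacter G, classInner Φ (χ : G → ℂ) = m χ := fun χ => by
    rw [hm]; exact Core.classInner_sum_nsmul_irr m χ
  have hsig : ∀ χ : IrrCharacter G, m (sig hk χ) = m χ := by
    intro χ
    have h1 : classInner Φ (sig hk χ : G → ℂ) = classInner Φ (χ : G → ℂ) := by
      rw [Core.classInner_def, Core.classInner_def]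
      congr 1
      refine Fintype.sum_bijective (fun g : G => g ^ k) (pow_bijective hk) _ _ fun g => ?_
      rw [sig_apply, hs.apply_pow hk]
    rw [hmi, hmi] at h1
    exact_mod_cast h1
  -- the set of the constituents of odd degree and odd multiplicity
  let X : Type u := {χ : IrrCharacter G // Odd (m χ * charDegree (χ : G → ℂ))}
  have hX : Odd (Fintype.card X) := by
    have h1 : (n : ℂ) = ((∑ χ : IrrCharacter G, m χ * charDegree (χ : G → ℂ) : ℕ) : ℂ) := by
      rw [← hn, hm]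
      simp only [Finset.sum_apply, nsmul_eq_mul]
      push_cast
      refine Finset.sum_congr rfl fun χ _ => ?_
      change (m χ : ℂ) * (χ : G → ℂ) 1 = _
      rw [Cfsg.Agent.Blocks.Basic.irr_one_eq_charDegree χ.2]
    have h2 : n = ∑ χ : IrrCharacter G, m χ * charDegree (χ : G → ℂ) := by exact_mod_cast h1
    rw [h2, Finset.odd_sum_iff_odd_card_odd] at ho
    rwa [Fintype.card_subtype]
  let f : Function.End X := fun x => ⟨sig hk x.1, by rw [hsig, charDegree_sig]; exact x.2⟩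
  have hf1 : ∀ (j : ℕ) (x : X), ((f ^ j) x).1 = (sig hk)^[j] x.1 := by
    intro j
    induction j with
    | zero => intro x; rfl
    | succ j ih =>
      intro x
      rw [pow_succ]
      change ((f ^ j) (f x)).1 = _
      rw [ih, Function.iterate_succ_apply]
  obtain ⟨N, hN⟩ := hk.exists_iter
  have hf : f ^ 2 ^ N = 1 := by
    funext x
    apply Subtype.ext
    rw [hf1]
    change _ = x.1
    refine Subtype.ext (funext fun g => ?_)
    rw [sig_iter, hN]
  have : Fact (Nat.Prime 2) := ⟨Nat.prime_two⟩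
  have h3 := Equiv.Perm.card_fixedPoints_modEq (p := 2) hf
  have h4 : Fintype.card f.fixedPoints ≠ 0 := by
    intro h0
    rw [h0] at h3
    have h5 : 2 ∣ Fintype.card X := (Nat.modEq_zero_iff_dvd).1 h3
    exact (Nat.not_even_iff_odd.2 hX) (even_iff_two_dvd.2 h5)
  obtain ⟨⟨x, hx⟩⟩ := Fintype.card_pos_iff.1 (Nat.pos_of_ne_zero h4)
  have hx1 : sig hk x.1 = x.1 := congrArg Subtype.val (hx : f x = x)
  have hodd := Nat.odd_mul.1 x.2
  refine ⟨(x.1 : G → ℂ), ⟨x.1.2, fun h2 => (Nat.not_even_iff_odd.2 hodd.2) (even_iff_two_dvd.2 h2)⟩, ?_, ?_⟩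
  · exact SF.of_pow hk ((sig_eq_iff hk x.1).1 hx1)
  · rw [hmi]
    have := hodd.1.pos
    exact_mod_cast this.ne'

theorem SF.good {χ : G → ℂ} [Finite G] (h : SF χ) (ho : OddIrr χ) (ht : H601.OddDeg.TwoC G) : Good χ :=
  ⟨ho, h.sigFix, fun _ hM hi => ht.mem_principalBlock hM ⟨χ, hi⟩ ho.2⟩

end parity

end Cfsg.Agent.H967.K4
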