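import Cfsg.Agent.H967.K4.Sig
import Cfsg.Agent.H139.Cusp.Bridge

/-!
# The cuspidal characters of `GL_n(q)`, `q` even, are `σ`-fixed (helper967, TEAM K4)

`psi_sf` : `SF (psi L θ)`: the value of `psi` at `u s` depends only on the characteristic polynomial and on the
dimensions of the kernels of the irreducible polynomials at `u s`.
-/

set_option autoImplicit false

open Cfsg

namespace Cfsg.Agent.H967.K4

open Polynomial Cfsg.Agent.H139.Cusp

section lin

variable {F : Type*} [Field F] {V : Type*} [AddCommGroup V] [Module F V]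

theorem pow_apply_of {u : Module.End F V} {v : V} (hv : u v = v) (k : ℕ) : (u ^ k) v = v := by
  induction k with
  | zero => rfl
  | succ k ih => rw [pow_succ, Module.End.mul_apply, hv, ih]

theorem apply_of_two_pow {u : Module.End F V} {j : ℕ} (hu : u ^ 2 ^ j = 1) {e : ℕ} (he : Odd e) {v : V}
    (hv : (u ^ e) v = v) : u v = v := by
  rcases Nat.eq_zero_or_pos j with rfl | hj
  · rw [pow_zero, pow_one] at hu
    rw [hu]; rfl
  have h1 : e.Coprime (2 ^ j) := Nat.Coprime.pow_right _ (Nat.coprime_two_right.2 he)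
  obtain ⟨m, -, hm⟩ := Nat.exists_mul_mod_eq_one_of_coprime h1 (Nat.one_lt_two_pow hj.ne')
  have h3 : u ^ (e * m) = u := by
    conv_lhs => rw [← Nat.div_add_mod (e * m) (2 ^ j), hm, pow_add, pow_mul, hu, one_pow, one_mul, pow_one]
  calc u v = (u ^ (e * m)) v := by rw [h3]
    _ = v := by rw [pow_mul]; exact pow_apply_of hv m

theorem exists_odd_pow [Finite F] [CharP F 2] {g : Module.End F V} (hg : Function.Injective g) {f : F[X]}
    (hf : Irreducible f) {v : V} (hv : aeval g f v = 0) : ∃ e : ℕ, Odd e ∧ (g ^ e) v = v := by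
  classical
  have : Fact (Irreducible f) := ⟨hf⟩
  have hfin : Finite (AdjoinRoot f) := finite_adjoin hf.ne_zero
  have : Fintype (AdjoinRoot f) := Fintype.ofFinite _
  have hch : CharP (AdjoinRoot f) 2 := charP_of_injective_algebraMap (algebraMap F (AdjoinRoot f)).injective 2
  have heven : Fintype.card (AdjoinRoot f) % 2 = 0 :=
    FiniteField.even_card_iff_char_two.1 (ringChar.eq (AdjoinRoot f) 2)
  have hdvd : ∀ p : F[X], f ∣ p → aeval g p v = 0 := by
    rintro p ⟨q, rfl⟩
    rw [mul_comm, map_mul, Module.End.mul_apply, hv, map_zero]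
  by_cases h0 : AdjoinRoot.root f = 0
  · refine ⟨1, odd_one, ?_⟩
    have h1 : f ∣ X := by
      rw [← AdjoinRoot.mk_eq_zero]
      exact h0
    have h2 := hdvd X h1
    rw [aeval_X] at h2
    have h3 : v = 0 := hg (by rw [h2, map_zero])
    rw [h3, map_zero]
  · refine ⟨Fintype.card (AdjoinRoot f) - 1, ?_, ?_⟩
    · have h1 : 0 < Fintype.card (AdjoinRoot f) := Fintype.card_pos
      rw [Nat.odd_iff]
      omega
    · have h1 : f ∣ X ^ (Fintype.card (AdjoinRoot f) - 1) - 1 := by
        rw [← AdjoinRoot.mk_eq_zero, map_sub, map_pow, map_one]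
        change AdjoinRoot.root f ^ _ - 1 = 0
        rw [FiniteField.pow_card_sub_one_eq_one _ h0, sub_self]
      have h2 := hdvd _ h1
      rw [map_sub, map_pow, aeval_X, map_one, LinearMap.sub_apply, sub_eq_zero] at h2
      exact h2

/-- unipotent elements act trivially on the kernels of the irreducible polynomials -/
theorem apply_of_ker [Finite F] [CharP F 2] {u s : Module.End F V} (hus : Commute u s) {j t : ℕ}
    (hu : u ^ 2 ^ j = 1) (ht : Odd t) (hs : s ^ t = 1) {f : F[X]} (hf : Irreducible f) {v : V}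
    (hv : aeval (u * s) f v = 0) : u v = v := by
  have hinj : Function.Injective (u * s : Module.End F V) := by
    have h1 : (u * s) ^ (2 ^ j * t) = 1 := by
      rw [hus.mul_pow, pow_mul, hu, one_pow, mul_comm (2 ^ j) t, pow_mul, hs, one_pow, one_mul]
    have hpos : 0 < 2 ^ j * t := Nat.mul_pos (by positivity) ht.pos
    intro a b hab
    have h2 : ∀ x : V, ((u * s) ^ (2 ^ j * t - 1)) ((u * s) x) = x := by
      intro x
      rw [← Module.End.mul_apply, ← pow_succ, Nat.sub_add_cancel hpos, h1]
      rfl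
    rw [← h2 a, ← h2 b, hab]
  obtain ⟨e, he, h1⟩ := exists_odd_pow hinj hf hv
  refine apply_of_two_pow hu (he.mul ht) ?_
  have h2 := pow_apply_of h1 t
  rw [← pow_mul, hus.mul_pow, mul_comm e t, pow_mul s, hs, one_pow, mul_one, mul_comm t e] at h2
  exact h2

theorem aeval_of_fix {u s : Module.End F V} (hus : Commute u s) {v : V} (hv : u v = v) (p : F[X]) :
    aeval (u * s) p v = aeval s p v := by
  induction p using Polynomial.induction_on' with
  | add p q hp hq => rw [map_add, map_add, LinearMap.add_apply, LinearMap.add_apply, hp, hq]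
  | monomial k c =>
    rw [aeval_monomial, aeval_monomial, Module.End.mul_apply, Module.End.mul_apply, hus.mul_pow,
      (hus.pow_pow k k).eq, Module.End.mul_apply, pow_apply_of hv]

/-- the kernels do not change -/
theorem ker_le [Finite F] [CharP F 2] {u s : Module.End F V} (hus : Commute u s) {j t : ℕ}
    (hu : u ^ 2 ^ j = 1) (ht : Odd t) (hs : s ^ t = 1) {f : F[X]} (hf : Irreducible f) :
    LinearMap.ker (aeval (u ^ 3 * s) f) = LinearMap.ker (aeval (u * s) f) := by
  have hus3 : Commute (u ^ 3) s := hus.pow_left 3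
  have hu3 : (u ^ 3) ^ 2 ^ j = 1 := by rw [← pow_mul, mul_comm, pow_mul, hu, one_pow]
  ext v
  rw [LinearMap.mem_ker, LinearMap.mem_ker]
  constructor
  · intro hv
    have h1 := apply_of_ker hus3 hu3 ht hs hf hv
    have h2 : u v = v := apply_of_two_pow hu (e := 3) ⟨1, rfl⟩ h1
    rw [aeval_of_fix hus3 h1] at hv
    rw [aeval_of_fix hus h2]
    exact hv
  · intro hv
    have h2 := apply_of_ker hus hu ht hs hf hv
    have h1 : (u ^ 3) v = v := pow_apply_of h2 3
    rw [aeval_of_fix hus h2] at hv
    rw [aeval_of_fix hus3 h1]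
    exact hv

end lin

section mat

variable {F : Type*} [Field F] [Fintype F] {ι : Type*} [Fintype ι] [DecidableEq ι]

theorem charpoly_iter (A : Matrix ι ι F) (a : ℕ) : (A ^ (Fintype.card F) ^ a).charpoly = A.charpoly := by
  induction a with
  | zero => simp
  | succ a ih => rw [pow_succ, pow_mul, FiniteField.Matrix.charpoly_pow_card, ih]

theorem charpoly_mul [CharP F 2] {A B : Matrix ι ι F} (hAB : Commute A B) {j t : ℕ} (hA : A ^ 2 ^ j = 1)
    (ht : Odd t) (hB : B ^ t = 1) : (A * B).charpoly = B.charpoly := by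
  have heven : Fintype.card F % 2 = 0 := FiniteField.even_card_iff_char_two.1 (ringChar.eq F 2)
  have h2 : 2 ∣ Fintype.card F := Nat.dvd_of_mod_eq_zero heven
  have hco : (Fintype.card F).Coprime t := by
    obtain ⟨k, -, hk⟩ := FiniteField.card F 2
    rw [hk]
    exact Nat.Coprime.pow_left _ (Nat.coprime_two_left.2 ht)
  have hq := (Nat.ModEq.pow_totient hco).pow (j + 1)
  rw [one_pow, ← pow_mul] at hq
  have hle : j ≤ t.totient * (j + 1) := by
    have h3 : 0 < t.totient := Nat.totient_pos.2 ht.pos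
    nlinarith
  rw [← charpoly_iter (A * B) (t.totient * (j + 1)), hAB.mul_pow]
  have e1 : A ^ Fintype.card F ^ (t.totient * (j + 1)) = 1 := by
    obtain ⟨c, hc⟩ := (pow_dvd_pow (Fintype.card F) hle)
    obtain ⟨d, hd⟩ := (pow_dvd_pow_of_dvd h2 j)
    rw [hc, hd, mul_assoc, pow_mul, hA, one_pow]
  have e2 : B ^ Fintype.card F ^ (t.totient * (j + 1)) = B := by
    have h4 : B ^ (Fintype.card F ^ (t.totient * (j + 1))) = B ^ 1 := by
      have h5 : Fintype.card F ^ (t.totient * (j + 1)) % t = 1 % t := hq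
      rw [← Nat.div_add_mod (Fintype.card F ^ (t.totient * (j + 1))) t, h5, pow_add, pow_mul, hB, one_pow,
        one_mul]
      conv_rhs => rw [← Nat.div_add_mod 1 t, pow_add, pow_mul, hB, one_pow, one_mul]
    rw [h4, pow_one]
  rw [e1, e2, one_mul]

end mat

/-- **The cuspidal characters are `σ`-fixed.** -/
theorem psi_sf {F : Type*} [Field F] [Finite F] [CharP F 2] (L : Type*) [Field L] [Algebra F L] (θ : L →*₀ ℂ)
    {n : ℕ} : SF (psi (n := n) (F := F) L θ) := by
  classical
  intro u s hus hu hs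
  have : Fintype F := Fintype.ofFinite F
  obtain ⟨j, hj⟩ := hu
  have hu1 : (u : Matrix (Fin n) (Fin n) F) ^ 2 ^ j = 1 := by
    rw [← Units.val_pow_eq_pow_val, ← hj, pow_orderOf_eq_one, Units.val_one]
  have hs1 : (s : Matrix (Fin n) (Fin n) F) ^ orderOf s = 1 := by
    rw [← Units.val_pow_eq_pow_val, pow_orderOf_eq_one, Units.val_one]
  have hc : Commute (u : Matrix (Fin n) (Fin n) F) (s : Matrix (Fin n) (Fin n) F) :=
    congrArg Units.val hus.eq
  let f := Matrix.toLinAlgEquiv' (R := F) (n := Fin n)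
  have hf : ∀ A : Matrix (Fin n) (Fin n) F, Matrix.toLin' A = f A := fun _ => rfl
  have hus' : Commute (f u) (f s) := by
    have := congrArg f hc.eq
    rw [map_mul, map_mul] at this
    exact this
  have hu' : (f u) ^ 2 ^ j = 1 := by rw [← map_pow, hu1, map_one]
  have hs' : (f s) ^ orderOf s = 1 := by rw [← map_pow, hs1, map_one]
  have e1 : Matrix.toLin' ((u ^ 3 * s : GL (Fin n) F) : Matrix (Fin n) (Fin n) F) = (f u) ^ 3 * f s := by
    rw [hf, Units.val_mul, Units.val_pow_eq_pow_val, map_mul, map_pow]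
  have e2 : Matrix.toLin' ((u * s : GL (Fin n) F) : Matrix (Fin n) (Fin n) F) = f u * f s := by
    rw [hf, Units.val_mul, map_mul]
  have hch : ∀ A : Matrix (Fin n) (Fin n) F, (Matrix.toLin' A).charpoly = A.charpoly := by
    intro A
    rw [← LinearMap.charpoly_toMatrix (Matrix.toLin' A) (Pi.basisFun F (Fin n)), ← LinearMap.toMatrix'_toLin' A]
    simp [LinearMap.toMatrix_eq_toMatrix']
  rw [psi, psi, cuspMat, cuspMat]
  refine cusp_congr L θ ?_ fun p hp => ?_
  · rw [hch, hch, Units.val_mul, Units.val_mul, Units.val_pow_eq_pow_val]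
    rw [charpoly_mul (hc.pow_left 3) (j := j) (by rw [← pow_mul, mul_comm, pow_mul, hu1, one_pow]) hs hs1,
      charpoly_mul hc hu1 hs hs1]
  · rw [e1, e2, ker_le hus' hu' hs hs' hp]

end Cfsg.Agent.H967.K4
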