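import Cfsg.Agent.H967.K4.Typ
import Cfsg.Agent.H967.K4.GLSig
import Cfsg.Agent.H622.Levi.Cusp

/-!
# Cuspidal `σ`-fixed characters of odd degree of the Levi subgroups, characteristic two (helper967, TEAM K4)

* `OC K` : `M_K` has a cuspidal `σ`-fixed character of odd degree, trivial on the centre;
* `OC.exists_HT` : then `Y` has a `σ`-fixed character of odd degree of type `K`;
* `oc_chain` : simply laced chains of nodes; `oc_node` : a node with a simply joined neighbour;
* `OC.union` : orthogonal sets.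
-/

set_option autoImplicit false

open scoped ComplexConjugate
open Cfsg

namespace Cfsg.Agent.H967.K4

open Cfsg.Agent.OddOrderCharacters.Clifford Cfsg.Agent.Characters Cfsg.Agent.H601.K4
open CoxeterSystem Cfsg.Agent.ChevalleyStructure.CoxeterGeom Cfsg.Agent.Tits.Roots Cfsg.Agent.Tits.Core
  Cfsg.Agent.Tits.Exchange Cfsg.Agent.Nodes.Reps Cfsg.Agent.Nodes.BNOf Cfsg.Agent.Nodes.StabComb
  Cfsg.Agent.Nodes.Bruhat Cfsg.Agent.Nodes.OppDec Cfsg.Agent.Nodes.LeviDec Cfsg.Agent.H53.HC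
  Cfsg.Agent.H246.Dl Cfsg.Agent.H618.Sigma
open Cfsg.Agent.LieRecognition.BNCox (cA)
open Matrix

theorem charP_two_of_card {F : Type*} [Field F] [Finite F] {a : ℕ} (h : Nat.card F = 2 ^ a) : CharP F 2 := by
  have : Fintype F := Fintype.ofFinite F
  obtain ⟨p, hp⟩ := CharP.exists F
  obtain ⟨k, hk, hk2⟩ := FiniteField.card F p
  rw [Nat.card_eq_fintype_card] at h
  rw [h] at hk2
  have h1 : p ∣ 2 ^ a := by rw [hk2]; exact dvd_pow_self _ k.ne_zero
  have h2 : p ∣ 2 := hk.dvd_of_dvd_pow h1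
  have h3 : p = 2 := (Nat.prime_dvd_prime_iff_eq hk Nat.prime_two).1 h2
  rwa [h3] at hp

/-- the image of a group under a surjective homomorphism -/
theorem Cube.of_surjective {G H : Type*} [Group G] [Group H] [Finite G] (f : G →* H) (hf : Function.Surjective f)
    {k : ℕ} (hk : Cube G k) : Cube H k where
  two g hg := by
    have : Finite H := Finite.of_surjective f hf
    obtain ⟨x, rfl⟩ := hf g
    obtain ⟨u, s, rfl, hus, hu, hs⟩ := exists_decomp x
    have h1 : f s = 1 := by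
      obtain ⟨j, hj⟩ := hg
      have h2 : (f u * f s) ^ 2 ^ j = 1 := by rw [← map_mul, ← hj, pow_orderOf_eq_one]
      obtain ⟨i, hi⟩ := two_pow_map f hu
      rw [(hus.map f).mul_pow] at h2
      have h3 : (f s) ^ (2 ^ j * 2 ^ i) = 1 := by
        have h4 : (f u ^ 2 ^ j * f s ^ 2 ^ j) ^ 2 ^ i = 1 := by rw [h2, one_pow]
        rw [((hus.map f).pow_pow _ _).mul_pow, ← pow_mul, mul_comm, pow_mul, ← pow_mul (f s)] at h4
        have h5 : (f u ^ 2 ^ i) = 1 := by rw [← hi, pow_orderOf_eq_one]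
        rw [← pow_mul] at h4
        rw [mul_comm] at h4
        rw [mul_comm (2 ^ j) (2 ^ i), pow_mul, h5, one_pow, one_mul] at h4
        rw [mul_comm (2 ^ j) (2 ^ i)]
        exact h4
      have h6 : orderOf (f s) ∣ 2 ^ j * 2 ^ i := orderOf_dvd_of_pow_eq_one h3
      rw [← pow_add] at h6
      have h7 := odd_map f hs
      have h8 : (orderOf (f s)).Coprime (2 ^ (j + i)) := Nat.Coprime.pow_right _ (Nat.coprime_two_right.2 h7)
      exact orderOf_eq_one_iff.1 (h8.eq_one_of_dvd h6)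
    rw [map_mul, h1, mul_one, ← map_pow, ← map_pow, hk.two u hu]
  odd g hg := by
    have : Finite H := Finite.of_surjective f hf
    obtain ⟨x, rfl⟩ := hf g
    obtain ⟨u, s, rfl, hus, hu, hs⟩ := exists_decomp x
    have h1 : f u = 1 := by
      obtain ⟨i, hi⟩ := two_pow_map f hu
      have h2 : (f u * f s) ^ orderOf (f (u * s)) = 1 := by rw [← map_mul, pow_orderOf_eq_one]
      rw [(hus.map f).mul_pow] at h2
      have h4 : (f u) ^ (orderOf (f (u * s)) * orderOf (f s)) = 1 := by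
        have h5 : ((f u) ^ orderOf (f (u * s)) * (f s) ^ orderOf (f (u * s))) ^ orderOf (f s) = 1 := by
          rw [h2, one_pow]
        rw [((hus.map f).pow_pow _ _).mul_pow, ← pow_mul, ← pow_mul, mul_comm (orderOf (f (u * s))) (orderOf (f s)),
          pow_mul (f s), pow_orderOf_eq_one, one_pow, mul_one, mul_comm] at h5
        exact h5
      have h6 := orderOf_dvd_of_pow_eq_one h4
      rw [hi] at h6
      have h7 : Odd (orderOf (f (u * s)) * orderOf (f s)) := hg.mul (odd_map f hs)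
      have h8 : (2 ^ i).Coprime (orderOf (f (u * s)) * orderOf (f s)) :=
        Nat.Coprime.pow_left _ (Nat.coprime_two_left.2 h7)
      have h9 := h8.eq_one_of_dvd h6
      exact orderOf_eq_one_iff.1 (by rw [hi, h9])
    rw [map_mul, h1, one_mul, ← map_pow, hk.odd s hs]

theorem odd_degP {q : ℕ} (h0 : 0 < q) (hq : Even q) (n : ℕ) : Odd (H139.Cusp.degP q n) := by
  unfold H139.Cusp.degP
  refine Finset.prod_induction _ Odd (fun _ _ ha hb => ha.mul hb) odd_one fun i _ => ?_
  exact Nat.Even.sub_odd (Nat.one_le_pow _ _ h0) (hq.pow_of_ne_zero i.succ_ne_zero) odd_one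

section rgd

variable {I W Y : Type*} [Fintype I] [DecidableEq I] [Group W] [Group Y] {M : CoxeterMatrix I}
  {cs : CoxeterSystem M W} {A : I → I → ℤ} {h : IsCartan M A} {T : Subgroup Y} {n : I → Y}
  {X : (I → ℤ) → Subgroup Y}

/-- `M_K` has a cuspidal `σ`-fixed character of odd degree, trivial on the centre. -/
def OC (cs : CoxeterSystem M W) (h : IsCartan M A) (X : (I → ℤ) → Subgroup Y) (K : Set I) : Prop :=
  ∃ θ : ↥(MJ cs h X K) → ℂ, Cusp cs h X K θ ∧ ¬ 2 ∣ charDegree θ ∧ SF θ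

theorem OC.exists_HT [Finite W] [Finite Y] (R : RGD cs h 2 T n X) (hG : GG cs h T X = ⊤) {K : Set I}
    (hK : OC cs h X K) : ∃ χ : Y → ℂ, OddIrr χ ∧ SF χ ∧ HT cs h X χ K := by
  obtain ⟨θ, h1, h2, h3⟩ := hK
  exact exists_odd_HT R hG K ⟨h1.irr, h2⟩ h3 h1.van

theorem oc_of_co [Finite W] [Finite Y] {m : ℕ} {k : Fin m ↪ I} {F : Type} [Field F] [Finite F] [CharP F 2]
    {φ : SpecialLinearGroup (Fin (m + 1)) F →* Y} (C : H622.Levi.Co X k F φ)
    (hk : ∀ i j, M (k i) (k j) = cA m i j) (hm : 1 ≤ m) : OC cs h X (Set.range k) := by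
  classical
  have : Fintype F := Fintype.ofFinite F
  obtain ⟨L, _, _, _, hL⟩ : ∃ (L : Type) (_ : Field L) (_ : Algebra F L) (_ : Finite L),
      Module.finrank F L = m + 1 := by
    have : NeZero (m + 1) := ⟨by omega⟩
    have : Fact (Nat.Prime 2) := ⟨Nat.prime_two⟩
    exact ⟨FiniteField.Extension F 2 (m + 1), inferInstance, inferInstance, inferInstance,
      FiniteField.finrank_extension F 2 (m + 1)⟩
  obtain ⟨θ, h1, h2⟩ := H113.PSL.Theta.exists_theta (F := F) (L := L) (n := m + 1) (by omega) hL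
  have hreg : H139.Cusp.Regular F (m + 1) θ := fun i hi hin => by
    obtain ⟨x, hx⟩ := h2 i hi hin
    exact ⟨x, hx.symm⟩
  have hirr := H139.Cusp.psi_isIrr θ hL hreg
  let f : SpecialLinearGroup (Fin (m + 1)) F →* GL (Fin (m + 1)) F := SpecialLinearGroup.toGL
  have hΨ : IsCharacter _ (H139.Cusp.psi (n := m + 1) (F := F) L θ ∘ f) :=
    Core.isCharacter_comp f (Core.isIrr_isCharacter hirr)
  have hone : (H139.Cusp.psi (n := m + 1) (F := F) L θ ∘ f) 1 = (H139.Cusp.degP (Nat.card F) (m + 1) : ℂ) := by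
    rw [Function.comp_apply, map_one, H139.Cusp.psi_one L θ (by omega)]
  have : Fintype (SpecialLinearGroup (Fin (m + 1)) F) := Fintype.ofFinite _
  have heven : Even (Nat.card F) := by
    rw [Nat.card_eq_fintype_card, Nat.even_iff]
    exact FiniteField.even_card_iff_char_two.1 (ringChar.eq F 2)
  obtain ⟨η, h3, h4, h5⟩ := exists_odd_const hΨ hone (odd_degP Nat.card_pos heven (m + 1)) ((psi_sf L θ).comp f)
  have h6 := isCharacter_sub_irr hΨ h3.1 h5
  have hscal : ∀ c : Fˣ, H139.Cusp.psi (n := m + 1) (F := F) L θ (GeneralLinearGroup.scalar (Fin (m + 1)) c) =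
      H139.Cusp.psi (n := m + 1) (F := F) L θ 1 := fun c => by
    have := H139.Cusp.psi_scalar θ hL c 1
    rw [mul_one] at this
    rw [this, h1 c c.ne_zero, one_mul]
  obtain ⟨θ', h9, h10⟩ := H622.Levi.exists_descend (cs := cs) (h := h) C hk hm h3.1 (by
    intro z hz'
    refine H622.Levi.apply_eq_of_add (Core.isIrr_isCharacter h3.1) h6 ?_
    rw [Pi.sub_apply, Pi.sub_apply, add_sub_cancel, add_sub_cancel, Function.comp_apply, Function.comp_apply, map_one]
    rw [← SpecialLinearGroup.toGL_mem_center_iff, GeneralLinearGroup.center_eq_range_scalar] at hz'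
    obtain ⟨c, hc'⟩ := hz'
    change H139.Cusp.psi L θ (SpecialLinearGroup.toGL z) = _
    rw [← hc', hscal]) (by
    intro i _
    refine H622.Levi.sum_eq_zero_of_add (Core.isIrr_isCharacter h3.1) h6 (H622.Levi.UU F i) ?_
    rw [← H622.Levi.sum_UU (Core.isIrr_isClassFunction hirr) (H139.Cusp.psi_isCusp L θ) i]
    refine Finset.sum_congr rfl fun g _ => ?_
    rw [Pi.sub_apply, add_sub_cancel, Function.comp_apply])
  refine ⟨θ', h9, ?_, ?_⟩
  · have e : charDegree θ' = charDegree η := by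
      unfold charDegree
      rw [h10 1 1 (map_one φ).symm]
    rw [e]
    exact h3.2
  · have hran : φ.range = MJ cs h X (Set.range k) := C.range hk hm
    let g : SpecialLinearGroup (Fin (m + 1)) F →* ↥(MJ cs h X (Set.range k)) :=
      φ.codRestrict _ fun g => hran ▸ ⟨g, rfl⟩
    have hg : Function.Surjective g := by
      rintro ⟨y, hy⟩
      rw [← hran] at hy
      obtain ⟨x, rfl⟩ := hy
      exact ⟨x, rfl⟩
    obtain ⟨c, hc⟩ := exists_cube (SpecialLinearGroup (Fin (m + 1)) F)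
    refine SF.of_pow (Cube.of_surjective g hg hc) fun y => ?_
    obtain ⟨x, rfl⟩ := hg y
    rw [← map_pow, h10 (x ^ c) (g (x ^ c)) rfl, h10 x (g x) rfl]
    exact h4.apply_pow hc x

variable (R : RGD cs h 2 T n X)

include R

theorem card_X_sr [Finite Y] (i : I) : ∃ a : ℕ, Nat.card (X (sr i)) = 2 ^ a := by
  have : Fact (Nat.Prime 2) := ⟨Nat.prime_two⟩
  exact IsPGroup.iff_card.1 (R.pgrp i)

/-- **Chains.** -/
theorem oc_chain [Finite W] [Finite Y] {m : ℕ} (hm : 2 ≤ m) (k : Fin m ↪ I)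
    (hk : ∀ i j, M (k i) (k j) = cA m i j) : OC cs h X (Set.range k) := by
  obtain ⟨F, _, _, φ, C⟩ := H622.Levi.exists_co R hm k hk
  obtain ⟨a, ha⟩ := card_X_sr R (k ⟨0, by omega⟩)
  have := charP_two_of_card ((C.card ⟨0, by omega⟩).symm.trans ha)
  exact oc_of_co C hk (by omega)

/-- **Nodes with a simply joined neighbour.** -/
theorem oc_node [Finite W] [Finite Y] (i j : I) (hij : M i j = 3) : OC cs h X {i} := by
  obtain ⟨F, _, _, φ, C⟩ := H622.Levi.exists_co_one R i j hij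
  obtain ⟨a, ha⟩ := card_X_sr R i
  have := charP_two_of_card ((C.card 0).symm.trans ha)
  let k : Fin 1 ↪ I := ⟨fun _ => i, fun a b _ => Subsingleton.elim a b⟩
  have hk : Set.range k = {i} := by
    ext x
    constructor
    · rintro ⟨_, rfl⟩; rfl
    · rintro rfl; exact ⟨0, rfl⟩
  have h1 := oc_of_co (cs := cs) (h := h) (k := k) C (by
    intro a b
    rw [Subsingleton.elim a b, M.diagonal, CoxeterMatrix.diagonal]) le_rfl
  rwa [hk] at h1

/-- **Unions of orthogonal sets of nodes.** -/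
theorem OC.union [Finite W] [Finite Y] {K K' : Set I} (hK : OC cs h X K) (hK' : OC cs h X K')
    (ho : H53.HC.Orth A K K') : OC cs h X (K ∪ K') := by
  obtain ⟨θ, h1, h2, h3⟩ := hK
  obtain ⟨θ', h1', h2', h3'⟩ := hK'
  obtain ⟨ψ, hψ, hv⟩ := h1.exists_prod R ho h1'
  have hone : ψ 1 = θ 1 * θ' 1 := by
    obtain ⟨hab, e⟩ := hv 1 (one_mem _) 1 (one_mem _)
    have e1 : (⟨1 * 1, hab⟩ : ↥(MJ cs h X (K ∪ K'))) = 1 := Subtype.ext (mul_one 1)
    rw [e1] at e
    exact e
  refine ⟨ψ, hψ, ?_, ?_⟩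
  · obtain ⟨a, -, ha⟩ := Core.isIrr_apply_one h1.irr
    obtain ⟨b, -, hb⟩ := Core.isIrr_apply_one h1'.irr
    have e1 : charDegree θ = a := by rw [charDegree, ha]; simp
    have e2 : charDegree θ' = b := by rw [charDegree, hb]; simp
    have e3 : charDegree ψ = a * b := by
      rw [charDegree, hone, ha, hb, ← Nat.cast_mul, Complex.natCast_re, Nat.floor_natCast]
    rw [e3]
    rw [e1] at h2
    rw [e2] at h2'
    exact fun h4 => (Nat.prime_two.dvd_mul.1 h4).elim h2 h2'
  · obtain ⟨c, hc⟩ := exists_cube Y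
    refine SF.of_pow (hc.subgroup _) fun y => ?_
    have hcomm := ho.comm R
    obtain ⟨a, ha, b, hb, e⟩ : ∃ a ∈ MJ cs h X K, ∃ b ∈ MJ cs h X K', (y : Y) = a * b := by
      have hy : (y : Y) ∈ MJ cs h X K ⊔ MJ cs h X K' := by
        rw [← ho.MJ_union]
        exact y.2
      refine mem_sup _ _ (fun b hb => ?_) hy
      rw [Subgroup.mem_normalizer_iff]
      intro a
      constructor
      · intro ha
        rwa [← hcomm a ha b hb, mul_inv_cancel_right]
      · intro ha
        have h6 := hcomm _ ha b hb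
        have h7 : b * a * b⁻¹ = a := by
          have : b * (b * a * b⁻¹) = b * a := by rw [← h6]; group
          exact mul_left_cancel this
        rwa [h7] at ha
    obtain ⟨hab, e1⟩ := hv a ha b hb
    obtain ⟨hab', e2⟩ := hv (a ^ c) (pow_mem ha c) (b ^ c) (pow_mem hb c)
    have hy1 : y = ⟨a * b, hab⟩ := Subtype.ext e
    have hy2 : y ^ c = ⟨a ^ c * b ^ c, hab'⟩ := by
      apply Subtype.ext
      have h6 : Commute a b := hcomm a ha b hb
      rw [Subgroup.coe_pow, e, h6.mul_pow]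
    rw [hy2, hy1, e1, e2]
    have e3 : θ ⟨a ^ c, pow_mem ha c⟩ = θ ⟨a, ha⟩ := h3.apply_pow (hc.subgroup _) ⟨a, ha⟩
    have e4 : θ' ⟨b ^ c, pow_mem hb c⟩ = θ' ⟨b, hb⟩ := h3'.apply_pow (hc.subgroup _) ⟨b, hb⟩
    rw [e3, e4]

end rgd

end Cfsg.Agent.H967.K4
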