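import Cfsg.Agent.H687.FourK.Node
import Cfsg.Agent.H948.Ppd.Cover

/-!
# Nodes parametrised by `SL₂(E)` and models over a Witt frame (helper967, TEAM K4)

* `nodeInv_of_ppd`, `oc_of_ppd` : `OC {i}` from helper948's `Nd T X i σ`, `σ : SL(2, E) →* Y`;
* `ppd_map` : the nodes of the group of root elements of a Witt frame and of the group modelled on it.
-/

set_option autoImplicit false

open Cfsg
open scoped MatrixGroups

namespace Cfsg.Agent.H967.K4

open CoxeterSystem Cfsg.Agent.ChevalleyStructure.CoxeterGeom Cfsg.Agent.Tits.Roots Cfsg.Agent.Tits.Core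
  Cfsg.Agent.Nodes.Reps Cfsg.Agent.Nodes.BNOf Cfsg.Agent.Nodes.StabComb Cfsg.Agent.Nodes.Bruhat
  Cfsg.Agent.H53.HC Cfsg.Agent.H911.SLTwo Cfsg.Agent.Nodes.RGDLib

universe u

section nd

variable {I W Y : Type*} [Fintype I] [DecidableEq I] [Group W] [Group Y] {M : CoxeterMatrix I}
  {cs : CoxeterSystem M W} {A : I → I → ℤ} {h : IsCartan M A} {r : ℕ} {T : Subgroup Y} {n : I → Y}
  {X : (I → ℤ) → Subgroup Y} {i : I} {E : Type*} [Field E] {σ : SL(2, E) →* Y}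

theorem nodeInv_of_ppd (R : RGD cs h r T n X) (N : H948.Ppd.Nd T X i σ) : H687.FourK.NodeInv R i := by
  obtain ⟨t, ht, h1, h2⟩ := H687.FourK.exists_rp_MJ R i
  have hM : MJ cs h X {i} = X (sr i) ⊔ X (-sr i) := H619.Gow.MJ_single i
  have hr : MJ cs h X {i} = σ.range := by rw [hM, N.range_eq R]
  refine ⟨t * n i, h1, h2, fun s hs hsM => ?_⟩
  have h3 := h1
  rw [hr] at h3
  obtain ⟨x, hx⟩ := h3
  -- `σ x` interchanges the two root groups
  have e1 : cj (σ x) (X (sr i)) = X (-sr i) := by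
    rw [hx, R.conj_rp h2 (isRoot_sr cs h i), rep_simple_sr]
  have e2 : cj (σ x) (X (-sr i)) = X (sr i) := by
    rw [hx, R.conj_rp h2 (isRoot_sr cs h i).neg, map_neg, rep_simple_sr, neg_neg]
  have e3 : cj (σ (x * ww)) (X (sr i)) = X (sr i) := by
    rw [map_mul, cj_mul, N.ww_conj, e2]
  have e4 : cj (σ (x * ww)) (X (-sr i)) = X (-sr i) := by
    rw [map_mul, cj_mul, N.ww_conj', e1]
  have h4 := N.lower_zero R e3
  have h5 := N.upper_zero R e4
  obtain ⟨c, hc⟩ : ∃ c : Eˣ, x * ww = hh c := by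
    have hdet := det_eq (x * ww)
    rw [h4, h5, mul_zero, sub_zero] at hdet
    refine ⟨Units.mk ((x * ww).1 0 0) ((x * ww).1 1 1) hdet (by rw [mul_comm]; exact hdet), ?_⟩
    apply ext'
    · rw [hh00]
    · rw [hh01, h5]
    · rw [hh10, h4]
    · rw [hh11]
      rfl
  have hx2 : x = hh c * ww⁻¹ := by rw [← hc, mul_inv_cancel_right]
  rw [hM] at hsM
  obtain ⟨d, rfl⟩ := N.inf_le R ⟨hsM, hs⟩
  have e5 : x * hh d * x⁻¹ = (hh d)⁻¹ := by
    have e6 : (ww : SL(2, E))⁻¹ * hh d * ww = hh d⁻¹ := by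
      have e7 := wh d⁻¹
      rw [inv_inv] at e7
      rw [← e7]
      group
    rw [hx2]
    calc hh c * ww⁻¹ * hh d * (hh c * ww⁻¹)⁻¹ = hh c * (ww⁻¹ * hh d * ww) * (hh c)⁻¹ := by group
      _ = hh c * hh d⁻¹ * hh c⁻¹ := by rw [e6, hh_inv]
      _ = (hh d)⁻¹ := by rw [hh_mul, hh_mul, hh_inv, mul_comm c, mul_assoc, mul_inv_cancel, mul_one]
  rw [← hx, ← map_mul, ← map_inv, ← map_mul, e5, map_inv]

theorem oc_of_ppd (R : RGD cs h 2 T n X) [Finite W] [Finite Y] [CharP E 2] (N : H948.Ppd.Nd T X i σ) :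
    OC cs h X {i} := by
  refine H687.FourK.oc_node_inv R (nodeInv_of_ppd R N) fun u hu => ?_
  obtain ⟨t, rfl⟩ := (N.up u).1 hu
  rw [← map_mul, U_mul, CharTwo.add_self_eq_zero, U_zero, map_one]

end nd

section witt

open Cfsg.Agent.TitsThree.FrameCN Cfsg.Agent.TitsThree.WittFrame Cfsg.Agent.TitsThree.Siegel Cfsg.Agent.Nodes

variable {F : Type*} [Field F] {V : Type*} [AddCommGroup V] [Module F V] {H : HForm F V} {n : ℕ}
  {Fr : Frame H (Fin n)} {K : Type*} [Group K]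

/-- from the group of root elements to the model -/
theorem ppd_map (M : Model Fr K) {i : Fin n} {E : Type*} [Field E] {σ : SL(2, E) →* M.I}
    (N : H948.Ppd.Nd ((WittRGD.Tor Fr M.I).subgroupOf M.I) (fun x => (WittRoot.rg Fr x).subgroupOf M.I) i σ) :
    H948.Ppd.Nd (WittModel.T M) (WittModel.X M) i (M.φ.comp σ) where
  up y := by
    constructor
    · rintro ⟨g, hg, rfl⟩
      obtain ⟨t, ht⟩ := (N.up g).1 hg
      exact ⟨t, by rw [MonoidHom.comp_apply, ht]⟩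
    · rintro ⟨t, rfl⟩
      exact ⟨σ (U t), (N.up _).2 ⟨t, rfl⟩, rfl⟩
  lo y := by
    constructor
    · rintro ⟨g, hg, rfl⟩
      obtain ⟨t, ht⟩ := (N.lo g).1 hg
      exact ⟨t, by rw [MonoidHom.comp_apply, ht]⟩
    · rintro ⟨t, rfl⟩
      exact ⟨σ (Lo t), (N.lo _).2 ⟨t, rfl⟩, rfl⟩
  tor s := ⟨_, N.tor s, rfl⟩

end witt

end Cfsg.Agent.H967.K4
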