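import Cfsg.Agent.H967.K4.Lie
import Cfsg.Agent.H967.K4.NodeSL
import Cfsg.Agent.H948.Ppd.NdMinus

/-!
# `PΩ⁻₈(q)`, `q` even (helper967, TEAM K4)

* `good5_B3` : type `B_3` with `OC` for the last node;
* `good5_om8` : `PΩ⁻₈(q)`.
-/

set_option autoImplicit false

open Cfsg

namespace Cfsg.Agent.H967.K4

open CoxeterSystem Cfsg.Agent.ChevalleyStructure.CoxeterGeom Cfsg.Agent.Tits.Roots Cfsg.Agent.Tits.Core
  Cfsg.Agent.Nodes.Reps Cfsg.Agent.Nodes.BNOf Cfsg.Agent.Nodes.Bruhat Cfsg.Agent.H601.K4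

section b3

variable {W Y : Type*} [Group W] [Finite W] [Group Y] [Finite Y] {cs : CoxeterSystem (CoxeterMatrix.B 3) W}
  {A : Fin 3 → Fin 3 → ℤ} {h : IsCartan (CoxeterMatrix.B 3) A} {T : Subgroup Y} {n : Fin 3 → Y}
  {X : (Fin 3 → ℤ) → Subgroup Y}

/-- **Type `B_3`.** -/
theorem good5_B3 (R : RGD cs h 2 T n X) (hG : GG cs h T X = ⊤) (hT : H601.OddDeg.TwoC Y)
    (hc : OC cs h X {2}) : Good5 Y := by
  have := Fintype.ofFinite W
  have h1 : CoxeterMatrix.B 3 0 1 = 3 := by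
    rw [H612.Sym.B_apply, if_neg (by decide), if_neg (by decide), if_pos (by decide)]
  have h2 : CoxeterMatrix.B 3 0 2 = 2 := by
    rw [H612.Sym.B_apply, if_neg (by decide), if_neg (by decide), if_neg (by decide)]
  have h3 : CoxeterMatrix.B 3 1 2 = 4 := by
    rw [H612.Sym.B_apply, if_neg (by decide), if_pos (by decide)]
  refine good5_of_pair R hG hT (a := 0) (b := 1) (c := 2) h1 h2 hc (rep_ne_of_len _ h ?_)
  rw [len_eq _ h h1]
  exact len_ne _ h h3

end b3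

section minus

open QuadraticMap
open Cfsg.Agent.LieClassical Cfsg.Agent.LieClassical.OrthCore Cfsg.Agent.LieClassical.OrthTrans
open Cfsg.Agent.LieClassical.OrthSimple Cfsg.Agent.LieClassical.OrthFinite
open Cfsg.Agent.LieClassical.OrthForms
open Cfsg.Agent.TitsThree.KSideO Cfsg.Agent.TitsThree.StdData
open Cfsg.Agent.Nodes Cfsg.Agent.Nodes.WittAll Cfsg.Agent.Nodes.WittU Cfsg.Agent.Nodes.WittInst
  Cfsg.Agent.TitsThree.Siegel Cfsg.Agent.TitsThree.SiegelGen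
  Cfsg.Agent.TitsThree.WittFrame Cfsg.Agent.TitsThree.WBridge Cfsg.Agent.TitsThree.WittWeyl
  Cfsg.Agent.TitsThree.FrameCN

/-- **`PΩ⁻₈(q)`, `q` even.** -/
theorem good5_om8 {F : Type} [Field F] [Fintype F] [CharP F 2] {a b : F}
    (hab : ∀ z₁ z₂ : F, z₁ ^ 2 + a * z₁ * z₂ + b * z₂ ^ 2 = 0 → z₁ = 0 ∧ z₂ = 0)
    (hT : H601.OddDeg.TwoC (Cfsg.POmega F (Cfsg.quadFormMinus 3 F a b))) :
    Good5 (Cfsg.POmega F (Cfsg.quadFormMinus 3 F a b)) := by
  have : Fact (Nat.Prime 2) := ⟨Nat.prime_two⟩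
  have h2 : (2 : F) = 0 := CharTwo.two_eq_zero
  revert hT
  rw [← coe_minusForm]
  intro hT
  have hG : LieClassical.OrthTrans.Good (minusForm 3 F a b) := by
    apply good_of_finite (nondeg_minusForm 3 F a b hab)
    rw [Module.finrank_fintype_fun_eq_card, Fintype.card_sum, Fintype.card_sum, Fintype.card_fin,
      Fintype.card_fin]
    omega
  have hp : ((embMinus 3 F a b hab).ngt ⟨(1, 0), -nf a b (1, 0), rfl⟩).c ≠ 0 := by
    change (1 : F)⁻¹ * (-nf a b (1, 0)) ≠ 0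
    simp [nf]
  have hA : AmbT (toFrame (wminus 3 F a b hab)) 2 (E (minusForm 3 F a b)) :=
    ambT_O _ fun g hg hg2 hb => fixp_minus a b hab h2 (by norm_num) hG hg hg2 hb
  let MM := model (wminus 3 F a b hab) hG ⟨_, hp⟩
  have hA' : AmbT (toFrame (wminus 3 F a b hab)) 2 MM.I := hA
  have hW : Finite (CoxeterMatrix.B 3).Group := Nodes.TypeC.finite_W (CoxeterMatrix.B 3).toCoxeterSystem
  have R := WittAll.rgdC_model MM hA' hp (CoxeterMatrix.B 3).toCoxeterSystem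
  have hf : Fact (∀ r : F, r ^ 2 ≠ -b + a * r) := ⟨fun r hr => by
    have h1 := hab (-r) 1 (by rw [neg_sq, hr]; ring)
    exact one_ne_zero h1.2⟩
  obtain ⟨E, i1, σ, hE, -, N⟩ := H948.Ppd.Minus.exists_last hab hA'.rg_le (i := (2 : Fin 3)) (by decide)
  have hcE : CharP E 2 := by
    obtain ⟨k, -, hk⟩ := FiniteField.card F 2
    have hfin : Finite E := Nat.finite_of_card_ne_zero (by
      rw [hE]
      exact pow_ne_zero _ Nat.card_pos.ne')
    refine charP_two_of_card (a := k * 2) ?_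
    rw [hE, Nat.card_eq_fintype_card, hk, ← pow_mul]
  refine good5_B3 R (gg_of_g1 (WittModel.G1_eq_top MM (by norm_num) _)) hT ?_
  exact oc_of_ppd R (ppd_map _ N)

end minus

end Cfsg.Agent.H967.K4
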